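import Cfsg.Agent.Lib.ClassesSL.Main
import Cfsg.Agent.Lib.Linear.Order

/-!
Numerical bounds for the weighted counts.
-/

set_option autoImplicit false
set_option linter.unusedSectionVars false

namespace Cfsg.Agent.Lib.ClassesSL

open Cfsg.Agent.Lib.ClassesGLBound

universe u

theorem kk11 (q : ℕ) : kk q 1 1 = q - 1 := by simp [kk_one, w]

theorem kk22 {q : ℕ} (hq : 1 ≤ q) : kk q 2 2 + 1 = q ^ 2 := by
  obtain ⟨a, rfl⟩ : ∃ a, q = a + 1 := ⟨q - 1, by omega⟩
  simp [kk, w, Finset.sum_range_succ]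
  ring

theorem kk33 {q : ℕ} (hq : 1 ≤ q) : kk q 3 3 + q = q ^ 3 := by
  obtain ⟨a, rfl⟩ : ∃ a, q = a + 1 := ⟨q - 1, by omega⟩
  simp [kk, w, Finset.sum_range_succ]
  ring

theorem extra_le_crude {q n : ℕ} (hq : 2 ≤ q) (hn : 7 ≤ n) : extra q n + q ^ (n - 2) * 3 ≤ 2 * q ^ (n - 1) := by
  set g := Nat.gcd n (q - 1) with hg
  have hg0 : 0 < g := Nat.gcd_pos_of_pos_left _ (by omega)
  have hgq : g ≤ q - 1 := Nat.le_of_dvd (by omega) (Nat.gcd_dvd_right _ _)
  rcases Nat.lt_or_ge g 2 with h1 | h1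
  · have : extra q n = 0 := by
      rw [extra, ← hg, show g = 1 by omega, show (1 : ℕ).divisors.erase 1 = ∅ by decide,
        Finset.sum_empty]
    rw [this, Nat.zero_add]
    obtain ⟨m, rfl⟩ : ∃ m, n = m + 2 := ⟨n - 2, by omega⟩
    simp only [Nat.add_sub_cancel, show m + 2 - 1 = m + 1 by omega, pow_succ]
    have := Nat.mul_le_mul (le_refl (q ^ m)) hq
    omega
  · have hE : extra q n ≤ q ^ (3 + n / 2) := by
      rw [extra, ← hg]
      refine le_trans (Finset.sum_le_card_nsmul _ _ (q ^ 2 * q ^ (n / 2)) fun h hh => ?_) ?_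
      · obtain ⟨hne, hdiv⟩ := Finset.mem_erase.1 hh
        have hdg := Nat.dvd_of_mem_divisors hdiv
        have hdn : h ∣ n := hdg.trans (Nat.gcd_dvd_left _ _)
        have hpos : 0 < h := Nat.pos_of_dvd_of_pos hdg hg0
        have hle : h ≤ q := le_trans (Nat.le_of_dvd hg0 hdg) (by omega)
        refine Nat.mul_le_mul (le_trans (Nat.sub_le _ _) (Nat.pow_le_pow_left hle 2)) ?_
        refine le_trans (kk_le_pow hq (Nat.div_pos (Nat.le_of_dvd (by omega) hdn) hpos)) ?_
        exact Nat.pow_le_pow_right (by omega)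
          (Nat.div_le_div_left (by omega) (by norm_num))
      · rw [smul_eq_mul, pow_add, show q ^ 3 = q * q ^ 2 by ring, mul_assoc q]
        refine Nat.mul_le_mul_right _ ?_
        refine le_trans (Finset.card_le_card (Finset.erase_subset _ _)) ?_
        exact le_trans (Nat.card_divisors_le_self g) (by omega)
    have h2 : q ^ (3 + n / 2) ≤ q ^ (n - 1) := Nat.pow_le_pow_right (by omega) (by omega)
    have h3 : q ^ (n - 2) * 3 ≤ q ^ (n - 1) := by
      rw [show n - 1 = n - 2 + 1 by omega, pow_succ]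
      exact Nat.mul_le_mul_left _ (by omega)
    omega

theorem extra_le {q n : ℕ} (hq : 2 ≤ q) (hn : 4 ≤ n) : extra q n + q ^ (n - 2) * 3 ≤ 2 * q ^ (n - 1) := by
  rcases Nat.lt_or_ge n 7 with h7 | h7
  swap
  · exact extra_le_crude hq h7
  have hdn : Nat.gcd n (q - 1) ∈ n.divisors :=
    Nat.mem_divisors.2 ⟨Nat.gcd_dvd_left _ _, by omega⟩
  have hgq : Nat.gcd n (q - 1) ≤ q - 1 := Nat.le_of_dvd (by omega) (Nat.gcd_dvd_right _ _)
  have k1 := kk11 q
  have k2 := kk22 (q := q) (by omega)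
  have k3 := kk33 (q := q) (by omega)
  unfold extra
  interval_cases n
  · rw [show (4 : ℕ).divisors = {1, 2, 4} by decide] at hdn
    simp only [Finset.mem_insert, Finset.mem_singleton] at hdn
    rcases hdn with h | h | h <;> rw [h] at hgq ⊢
    · simp [show (1 : ℕ).divisors.erase 1 = ∅ by decide]
      nlinarith
    · simp [show (2 : ℕ).divisors.erase 1 = {2} by decide]
      have := Nat.mul_le_mul_left (q ^ 2) (show 3 ≤ q by omega)
      nlinarith
    · simp [show (4 : ℕ).divisors.erase 1 = {2, 4} by decide, k1]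
      have : 5 ≤ q := by omega
      have : q - 1 ≤ q := Nat.sub_le _ _
      nlinarith
  · rw [show (5 : ℕ).divisors = {1, 5} by decide] at hdn
    simp only [Finset.mem_insert, Finset.mem_singleton] at hdn
    rcases hdn with h | h <;> rw [h] at hgq ⊢
    · simp [show (1 : ℕ).divisors.erase 1 = ∅ by decide]
      nlinarith [pow_pos (show 0 < q by omega) 3]
    · simp [show (5 : ℕ).divisors.erase 1 = {5} by decide, k1]
      have h6 : 6 ≤ q := by omega
      have : q - 1 ≤ q := Nat.sub_le _ _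
      nlinarith [Nat.pow_le_pow_left h6 3]
  · rw [show (6 : ℕ).divisors = {1, 2, 3, 6} by decide] at hdn
    simp only [Finset.mem_insert, Finset.mem_singleton] at hdn
    rcases hdn with h | h | h | h <;> rw [h] at hgq ⊢
    · simp [show (1 : ℕ).divisors.erase 1 = ∅ by decide]
      nlinarith [pow_pos (show 0 < q by omega) 4]
    · simp [show (2 : ℕ).divisors.erase 1 = {2} by decide]
      have h3 : 3 ≤ q := by omega
      nlinarith [Nat.pow_le_pow_left h3 4, Nat.mul_le_mul_left (q ^ 4) h3]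
    · simp [show (3 : ℕ).divisors.erase 1 = {3} by decide]
      have h4 : 4 ≤ q := by omega
      nlinarith [Nat.pow_le_pow_left h4 2, Nat.mul_le_mul_left (q ^ 4) h4]
    · simp [show (6 : ℕ).divisors.erase 1 = {2, 3, 6} by decide, k1]
      have h7 : 7 ≤ q := by omega
      have : q - 1 ≤ q := Nat.sub_le _ _
      have a1 : q ^ 3 * 7 ≤ q ^ 4 := by rw [pow_succ q 3]; exact Nat.mul_le_mul_left _ h7
      have a2 : q ^ 2 ≤ q ^ 3 := Nat.pow_le_pow_right (by omega) (by omega)
      have a3 : q ≤ q ^ 3 := Nat.le_self_pow (by omega) q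
      have a4 : q ^ 4 * 7 ≤ q ^ 5 := by rw [pow_succ q 4]; exact Nat.mul_le_mul_left _ h7
      omega

variable (F : Type u) [Field F] [Fintype F]

theorem Phi_one : Phi F 1 ≤ Fintype.card F - 1 := by
  refine (Phi_le le_rfl).trans ?_
  simp [extra, kk11]

theorem Phi_two : Phi F 2 + 1 ≤ Fintype.card F ^ 2 + 3 * (Nat.gcd 2 (Fintype.card F - 1) - 1) * (Fintype.card F - 1) := by
  have h := Phi_le (F := F) (n := 2) (by norm_num)
  have hk := kk22 (q := Fintype.card F) Fintype.card_pos
  rcases (Nat.dvd_prime Nat.prime_two).1 (Nat.gcd_dvd_left 2 (Fintype.card F - 1)) with hg | hg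
  · rw [extra, hg] at h
    rw [hg]
    simp at h ⊢
    omega
  · rw [extra, hg, show (2 : ℕ).divisors.erase 1 = {2} by decide] at h
    rw [hg]
    simp [kk11] at h ⊢
    omega

theorem Phi_three : Phi F 3 + Fintype.card F ≤
    Fintype.card F ^ 3 + 4 * (Nat.gcd 3 (Fintype.card F - 1) - 1) * (Fintype.card F - 1) := by
  have h := Phi_le (F := F) (n := 3) (by norm_num)
  have hk := kk33 (q := Fintype.card F) Fintype.card_pos
  rcases (Nat.dvd_prime Nat.prime_three).1 (Nat.gcd_dvd_left 3 (Fintype.card F - 1)) with hg | hg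
  · rw [extra, hg] at h
    rw [hg]
    simp at h ⊢
    omega
  · rw [extra, hg, show (3 : ℕ).divisors.erase 1 = {3} by decide] at h
    rw [hg]
    simp [kk11] at h ⊢
    omega

theorem Phi_bound {n : ℕ} (hn : 4 ≤ n) :
    Phi F n + 3 * Fintype.card F ^ (n - 2) ≤
      Fintype.card F ^ n + 2 * Fintype.card F ^ (n - 1) := by
  have hq : 2 ≤ Fintype.card F := Fintype.one_lt_card
  have h := Phi_le (F := F) (n := n) (by omega)
  have h1 := kk_le_pow hq (show 1 ≤ n by omega)
  have h2 := extra_le hq hn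
  omega

theorem Phi_crude {m : ℕ} (hm : 1 ≤ m) :
    Phi F m ≤ (Fintype.card F - 1) ^ 2 * Fintype.card F ^ m := by
  have hq : 2 ≤ Fintype.card F := Fintype.one_lt_card
  refine le_trans (Finset.sum_le_card_nsmul _ _ ((Fintype.card F - 1) ^ 2) fun t _ =>
    Nat.pow_le_pow_left (Nat.le_of_dvd (by omega) (gam_dvd_sub_one t.1)) 2) ?_
  rw [smul_eq_mul, mul_comm, Finset.card_univ, ← Nat.card_eq_fintype_card (α := T F m m)]
  exact Nat.mul_le_mul_left _ ((card_T F m m).2.trans (kk_le_pow hq hm))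

/-- The class number of the special linear group. -/
theorem card_conjClasses_le {n : ℕ} (hn : 3 ≤ n) :
    Nat.card (ConjClasses (Matrix.SpecialLinearGroup (Fin n) F)) ≤
      Fintype.card F ^ (n - 1) + 3 * Fintype.card F ^ (n - 2) := by
  have hq : 2 ≤ Fintype.card F := Fintype.one_lt_card
  refine Nat.le_of_mul_le_mul_left (le_trans (card_conjClasses_mul_le (F := F) (n := n)) ?_)
    (show 0 < Fintype.card F - 1 by omega)
  obtain ⟨a, ha⟩ : ∃ a, Fintype.card F = a + 1 := ⟨Fintype.card F - 1, by omega⟩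
  rcases Nat.lt_or_ge n 4 with h | h
  · obtain rfl : n = 3 := by omega
    have h3 := Phi_three F
    have hg := Nat.gcd_dvd_right 3 (Fintype.card F - 1)
    rcases (Nat.dvd_prime Nat.prime_three).1 (Nat.gcd_dvd_left 3 (Fintype.card F - 1)) with hh | hh <;>
      rw [hh] at h3 hg <;> rw [ha] at h3 hg hq ⊢ <;>
      simp only [Nat.add_sub_cancel, Nat.reduceSub] at h3 hg ⊢
    · nlinarith
    · have : 3 ≤ a := Nat.le_of_dvd (by omega) hg
      nlinarith
  · have hb := Phi_bound F h
    obtain ⟨m, rfl⟩ : ∃ m, n = m + 2 := ⟨n - 2, by omega⟩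
    rw [ha] at hb ⊢
    simp only [Nat.add_sub_cancel, show m + 2 - 1 = m + 1 by omega] at hb ⊢
    have e : a * ((a + 1) ^ (m + 1) + 3 * (a + 1) ^ m) + 3 * (a + 1) ^ m =
        (a + 1) ^ (m + 2) + 2 * (a + 1) ^ (m + 1) := by ring
    omega

theorem card_conjClasses_two :
    Nat.card (ConjClasses (Matrix.SpecialLinearGroup (Fin 2) F)) ≤
      Fintype.card F + 1 + 3 * (Nat.gcd 2 (Fintype.card F - 1) - 1) := by
  have hq : 2 ≤ Fintype.card F := Fintype.one_lt_card
  refine Nat.le_of_mul_le_mul_left (le_trans (card_conjClasses_mul_le (F := F) (n := 2)) ?_)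
    (show 0 < Fintype.card F - 1 by omega)
  obtain ⟨a, ha⟩ : ∃ a, Fintype.card F = a + 1 := ⟨Fintype.card F - 1, by omega⟩
  have h2 := Phi_two F
  generalize Nat.gcd 2 (Fintype.card F - 1) - 1 = g at h2 ⊢
  rw [ha] at h2 ⊢
  simp only [Nat.add_sub_cancel] at h2 ⊢
  nlinarith

/-- The sum over non-trivial central elements. -/
theorem rest_bound {n : ℕ} (hn : 4 ≤ n) : ∃ B, (∀ m, m ∣ n → 2 * m ≤ n → 1 ≤ m → Phi F m ≤ B) ∧
    (Nat.gcd n (Fintype.card F - 1) - 1) * B + 2 * Fintype.card F ^ (n - 2) ≤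
      2 * Fintype.card F ^ (n - 1) := by
  have hq : 2 ≤ Fintype.card F := Fintype.one_lt_card
  have hgn : Nat.gcd n (Fintype.card F - 1) ≤ n := Nat.le_of_dvd (by omega) (Nat.gcd_dvd_left _ _)
  have hgq : Nat.gcd n (Fintype.card F - 1) ≤ Fintype.card F - 1 :=
    Nat.le_of_dvd (by omega) (Nat.gcd_dvd_right _ _)
  have P1 := Phi_one F
  have P2 : Phi F 2 ≤ Fintype.card F ^ 2 + 3 * Fintype.card F := by
    have h := Phi_two F
    have hle := Nat.le_of_dvd (by norm_num) (Nat.gcd_dvd_left 2 (Fintype.card F - 1))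
    have := Nat.mul_le_mul (Nat.mul_le_mul_left 3 (show Nat.gcd 2 (Fintype.card F - 1) - 1 ≤ 1 by omega))
      (Nat.sub_le (Fintype.card F) 1)
    omega
  have P3 : Phi F 3 ≤ Fintype.card F ^ 3 + 8 * Fintype.card F := by
    have h := Phi_three F
    have hle := Nat.le_of_dvd (by norm_num) (Nat.gcd_dvd_left 3 (Fintype.card F - 1))
    have := Nat.mul_le_mul (Nat.mul_le_mul_left 4 (show Nat.gcd 3 (Fintype.card F - 1) - 1 ≤ 2 by omega))
      (Nat.sub_le (Fintype.card F) 1)
    omega
  have hPc : ∀ m, 1 ≤ m → Phi F m ≤ (Fintype.card F - 1) ^ 2 * Fintype.card F ^ m := fun m =>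
    Phi_crude F
  obtain ⟨a, ha⟩ : ∃ a, Fintype.card F = a + 2 := ⟨Fintype.card F - 2, by omega⟩
  generalize Nat.gcd n (Fintype.card F - 1) = g at hgn hgq ⊢
  rw [ha] at hq P1 P2 P3 hgq ⊢
  simp only [ha] at hPc
  rcases Nat.lt_or_ge n 7 with h7 | h7
  · interval_cases n
    · refine ⟨(a + 2) ^ 2 + 3 * (a + 2), fun m _ hm hm1 => ?_, ?_⟩
      · have : m ≤ 2 := by omega
        interval_cases m
        · exact P1.trans (le_trans (Nat.sub_le _ _) (by nlinarith))
        · exact P2
      · rcases Nat.lt_or_ge a 2 with h | h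
        · have := Nat.mul_le_mul_right ((a + 2) ^ 2 + 3 * (a + 2)) (show g - 1 ≤ a by omega)
          simp only [Nat.reduceSub] at this ⊢
          interval_cases a <;> omega
        · have := Nat.mul_le_mul_right ((a + 2) ^ 2 + 3 * (a + 2)) (show g - 1 ≤ 3 by omega)
          simp only [Nat.reduceSub] at this ⊢
          nlinarith
    · refine ⟨a + 2, fun m hm hm2 hm1 => ?_, ?_⟩
      · have : m ≤ 2 := by omega
        interval_cases m
        · exact P1.trans (by omega)
        · norm_num at hm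
      · have := Nat.mul_le_mul_right (a + 2) (show g - 1 ≤ 4 by omega)
        simp only [Nat.reduceSub] at this ⊢
        have a1 := Nat.pow_le_pow_left (show 2 ≤ a + 2 by omega) 2
        have a2 := Nat.mul_le_mul_left (a + 2) a1
        nlinarith [Nat.mul_le_mul_left ((a + 2) ^ 3) (show 2 ≤ a + 2 by omega)]
    · refine ⟨(a + 2) ^ 3 + 8 * (a + 2), fun m _ hm2 hm1 => ?_, ?_⟩
      · have : m ≤ 3 := by omega
        interval_cases m
        · exact P1.trans (le_trans (Nat.sub_le _ _) (by nlinarith))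
        · exact P2.trans (by nlinarith)
        · exact P3
      · rcases Nat.lt_or_ge a 1 with h | h
        · simp [show g - 1 = 0 by omega, show a = 0 by omega]
        · have := Nat.mul_le_mul_right ((a + 2) ^ 3 + 8 * (a + 2)) (show g - 1 ≤ 5 by omega)
          simp only [Nat.reduceSub] at this ⊢
          nlinarith [Nat.pow_le_pow_left (show 3 ≤ a + 2 by omega) 4,
            Nat.pow_le_pow_left (show 3 ≤ a + 2 by omega) 3]
  · refine ⟨(a + 2 - 1) ^ 2 * (a + 2) ^ (n / 2), fun m _ hm hm1 => (hPc m hm1).trans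
      (Nat.mul_le_mul_left _ (Nat.pow_le_pow_right (by omega) (by omega))), ?_⟩
    have h1 : (g - 1) * ((a + 2 - 1) ^ 2 * (a + 2) ^ (n / 2)) ≤ (a + 2) ^ (3 + n / 2) := by
      rw [pow_add, show (a + 2) ^ 3 = (a + 2) * (a + 2) ^ 2 by ring, ← mul_assoc]
      exact Nat.mul_le_mul_right _ (Nat.mul_le_mul (by omega) (Nat.pow_le_pow_left (by omega) 2))
    have h2 : (a + 2) ^ (3 + n / 2) ≤ (a + 2) ^ (n - 1) := Nat.pow_le_pow_right (by omega) (by omega)
    have h3 : (a + 2) ^ (n - 2) * 2 ≤ (a + 2) ^ (n - 1) := by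
      rw [show n - 1 = n - 2 + 1 by omega, pow_succ]
      exact Nat.mul_le_mul_left _ (by omega)
    omega

/-- The class number of the projective special linear group. -/
theorem gcd_mul_card_conjClasses {n : ℕ} (hn : 2 ≤ n) :
    Fintype.card F ^ (n - 1) ≤ Nat.gcd n (Fintype.card F - 1) *
        Nat.card (ConjClasses (Matrix.ProjectiveSpecialLinearGroup (Fin n) F)) ∧
      Nat.gcd n (Fintype.card F - 1) *
        Nat.card (ConjClasses (Matrix.ProjectiveSpecialLinearGroup (Fin n) F)) ≤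
          Fintype.card F ^ (n - 1) + 5 * Fintype.card F ^ (n - 2) := by
  classical
  haveI : Nonempty (Fin n) := ⟨⟨0, by omega⟩⟩
  letI : Fintype (Subgroup.center (Matrix.SpecialLinearGroup (Fin n) F)) := Fintype.ofFinite _
  have hd : Nat.card (Subgroup.center (Matrix.SpecialLinearGroup (Fin n) F)) =
      Nat.gcd n (Fintype.card F - 1) := by
    rw [Lib.Linear.card_center_SL, Fintype.card_fin, Nat.card_eq_fintype_card (α := F)]
  obtain ⟨hlo, hhi⟩ := conjClasses_quotient_center (G := Matrix.SpecialLinearGroup (Fin n) F)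
  rw [hd] at hlo hhi
  refine ⟨le_trans (pow_lt_card_conjClasses (F := F) hn).le hlo, ?_⟩
  have hq : 2 ≤ Fintype.card F := Fintype.one_lt_card
  refine le_trans hhi (Nat.le_of_mul_le_mul_left ?_ (show 0 < Fintype.card F - 1 by omega))
  rw [← Finset.add_sum_erase _ _ (Finset.mem_univ
    (1 : Subgroup.center (Matrix.SpecialLinearGroup (Fin n) F))), Nat.mul_add, Finset.mul_sum]
  have hone : (Fintype.card F - 1) * Nat.card {C : ConjClasses (Matrix.SpecialLinearGroup (Fin n) F) //
      ∃ x, ConjClasses.mk x = C ∧ IsConj (((1 : Subgroup.center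
        (Matrix.SpecialLinearGroup (Fin n) F)) : Matrix.SpecialLinearGroup (Fin n) F) * x) x} ≤
      Phi F n :=
    le_trans (Nat.mul_le_mul_left _ (Nat.card_le_card_of_injective Subtype.val
      Subtype.val_injective)) card_conjClasses_mul_le
  have hrest : ∀ B, (∀ m, m ∣ n → 2 * m ≤ n → 1 ≤ m → Phi F m ≤ B) →
      ∑ z ∈ Finset.univ.erase (1 : Subgroup.center (Matrix.SpecialLinearGroup (Fin n) F)),
        (Fintype.card F - 1) * Nat.card {C : ConjClasses (Matrix.SpecialLinearGroup (Fin n) F) //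
          ∃ x, ConjClasses.mk x = C ∧
            IsConj ((z : Matrix.SpecialLinearGroup (Fin n) F) * x) x} ≤
        (Nat.gcd n (Fintype.card F - 1) - 1) * B := by
    intro B hB
    refine le_trans (Finset.sum_le_card_nsmul _ _ B fun z hz => ?_) ?_
    · obtain ⟨m, h1, h2, h3, h4⟩ := fixed_mul_le (by omega) z (Finset.ne_of_mem_erase hz)
      exact h4.trans (hB m h1 h2 h3)
    · rw [Finset.card_erase_of_mem (Finset.mem_univ _), Finset.card_univ, smul_eq_mul,
        ← Nat.card_eq_fintype_card, hd]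
  refine le_trans (Nat.add_le_add_right hone _) ?_
  obtain ⟨a, ha⟩ : ∃ a, Fintype.card F = a + 1 := ⟨Fintype.card F - 1, by omega⟩
  rcases Nat.lt_or_ge n 4 with h | h
  · have h1 := hrest (Fintype.card F - 1) fun m hm hm2 hm1 => by
      obtain rfl : m = 1 := by omega
      exact Phi_one F
    refine le_trans (Nat.add_le_add_left h1 _) ?_
    interval_cases n
    · have h2 := Phi_two F
      have hle := Nat.le_of_dvd (by norm_num) (Nat.gcd_dvd_left 2 (Fintype.card F - 1))
      have hb : Nat.gcd 2 (Fintype.card F - 1) - 1 ≤ 1 := by omega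
      generalize Nat.gcd 2 (Fintype.card F - 1) - 1 = g at h2 hb ⊢
      rw [ha] at h2 ⊢
      simp only [Nat.add_sub_cancel, Nat.reduceSub] at h2 ⊢
      nlinarith
    · have h3 := Phi_three F
      have hg := Nat.gcd_dvd_right 3 (Fintype.card F - 1)
      rcases (Nat.dvd_prime Nat.prime_three).1 (Nat.gcd_dvd_left 3 (Fintype.card F - 1)) with hh | hh <;>
        rw [hh] at h3 hg ⊢ <;> rw [ha] at h3 hg hq ⊢ <;>
        simp only [Nat.add_sub_cancel, Nat.reduceSub] at h3 hg ⊢
      · nlinarith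
      · have : 3 ≤ a := Nat.le_of_dvd (by omega) hg
        nlinarith
  · obtain ⟨B, hB, hB'⟩ := rest_bound F h
    refine le_trans (Nat.add_le_add_left (hrest B hB) _) ?_
    have hb := Phi_bound F h
    obtain ⟨m, rfl⟩ : ∃ m, n = m + 2 := ⟨n - 2, by omega⟩
    generalize Nat.gcd (m + 2) (Fintype.card F - 1) - 1 = g at hB' ⊢
    rw [ha] at hb hB' ⊢
    simp only [Nat.add_sub_cancel, show m + 2 - 1 = m + 1 by omega] at hb hB' ⊢
    have e : a * ((a + 1) ^ (m + 1) + 5 * (a + 1) ^ m) + 5 * (a + 1) ^ m =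
        (a + 1) ^ (m + 2) + 4 * (a + 1) ^ (m + 1) := by ring
    omega

end Cfsg.Agent.Lib.ClassesSL
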