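import Cfsg.Agent.Lib.ClassesSL.Invariant

/-!
Counting sequences with determinant one, weighted by the index of the group of centraliser
determinants.
-/

set_option autoImplicit false
set_option linter.unusedSectionVars false
set_option linter.style.haveILetI false

namespace Cfsg.Agent.Lib.ClassesSL

open Polynomial
open Cfsg.Agent.Lib.ClassesGLBound

universe u

variable {F : Type u} [Field F] [Fintype F] {n m : ℕ}

noncomputable instance : Fintype (T F n n) :=
  haveI := (card_T F n n).1
  Fintype.ofFinite _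

/-- The exponents that occur. -/
noncomputable def supp (t : Fin n → F[X]) : Finset (Fin n) := by
  classical exact Finset.univ.filter fun j => t j ≠ 1

theorem mem_supp {t : Fin n → F[X]} {j : Fin n} : j ∈ supp t ↔ t j ≠ 1 := by simp [supp]

/-- The index of the subgroup of `F×` generated by the corresponding powers. -/
noncomputable def gam (t : Fin n → F[X]) : ℕ :=
  Nat.gcd (Fintype.card F - 1) ((supp t).gcd fun j => (j : ℕ) + 1)

theorem natDegree_eq_zero_of_not_supp {t : T F n n} {j : Fin n} (h : j ∉ supp t.1) :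
    (t.1 j).natDegree = 0 := by
  rw [mem_supp, not_not] at h
  rw [h, natDegree_one]

theorem natDegree_pos_of_supp {t : T F n n} {j : Fin n} (h : j ∈ supp t.1) :
    0 < (t.1 j).natDegree :=
  Nat.pos_of_ne_zero fun e => mem_supp.1 h (eq_one_of_monic_natDegree_zero (t.2.1 j).1 e)

theorem gam_dvd_sub_one (t : Fin n → F[X]) : gam t ∣ Fintype.card F - 1 := Nat.gcd_dvd_left _ _

theorem gam_pos (t : Fin n → F[X]) : 0 < gam t :=
  Nat.gcd_pos_of_pos_left _ (by have := Fintype.one_lt_card (α := F); omega)

theorem gam_dvd_succ {t : Fin n → F[X]} {j : Fin n} (h : j ∈ supp t) : gam t ∣ (j : ℕ) + 1 :=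
  (Nat.gcd_dvd_right _ _).trans (Finset.gcd_dvd h)

theorem gam_dvd_weight (t : T F n n) : gam t.1 ∣ n := by
  have h := t.2.2
  conv_rhs => rw [← h]
  refine Finset.dvd_sum fun j _ => ?_
  by_cases hj : j ∈ supp t.1
  · exact (gam_dvd_succ hj).mul_right _
  · rw [natDegree_eq_zero_of_not_supp hj, mul_zero]; exact dvd_zero _

theorem coeff_ne_zero (t : T F n n) (j : Fin n) : (t.1 j).coeff 0 ≠ 0 := (t.2.1 j).2

theorem detT_ne_zero (t : T F n n) : detT t.1 ≠ 0 :=
  Finset.prod_ne_zero_iff.2 fun j _ => pow_ne_zero _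
    (mul_ne_zero (pow_ne_zero _ (neg_ne_zero.2 one_ne_zero)) (coeff_ne_zero t j))

/-- A property of sequences preserved by changing constant coefficients. -/
def Stable (P : T F n n → Prop) : Prop :=
  ∀ t t' : T F n n, P t → (∀ j, ∀ i, i ≠ 0 → (t'.1 j).coeff i = (t.1 j).coeff i) → P t'

/-- Scaling one constant coefficient. -/
noncomputable def scale (t : T F n n) (j : Fin n) (hj : j ∈ supp t.1) (l : Fˣ) : T F n n :=
  ⟨Function.update t.1 j (t.1 j + C (((l : F) - 1) * (t.1 j).coeff 0)), by
    have hd : (t.1 j + C (((l : F) - 1) * (t.1 j).coeff 0)).natDegree = (t.1 j).natDegree :=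
      natDegree_add_C
    refine ⟨fun i => ?_, ?_⟩
    · by_cases hi : i = j
      · rw [hi, Function.update_self]
        refine ⟨(t.2.1 j).1.add_of_left (lt_of_le_of_lt degree_C_le ?_), ?_⟩
        · rw [degree_eq_natDegree (t.2.1 j).1.ne_zero]
          exact_mod_cast natDegree_pos_of_supp hj
        · rw [coeff_add, coeff_C_zero, show (t.1 j).coeff 0 + ((l : F) - 1) * (t.1 j).coeff 0 =
            (l : F) * (t.1 j).coeff 0 by ring]
          exact mul_ne_zero l.ne_zero (coeff_ne_zero t j)
      · rw [Function.update_of_ne hi]; exact t.2.1 i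
    · refine Eq.trans ?_ t.2.2
      refine Finset.sum_congr rfl fun i _ => ?_
      by_cases hi : i = j
      · rw [hi, Function.update_self, hd]
      · rw [Function.update_of_ne hi]⟩

theorem supp_scale (t : T F n n) (j : Fin n) (hj : j ∈ supp t.1) (l : Fˣ) :
    supp (scale t j hj l).1 = supp t.1 := by
  ext i
  rw [mem_supp, mem_supp]
  show Function.update _ _ _ i ≠ 1 ↔ _
  by_cases hi : i = j
  · rw [hi, Function.update_self]
    refine iff_of_true (fun e => ?_) (mem_supp.1 hj)
    have h1 := congrArg natDegree e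
    rw [natDegree_add_C, natDegree_one] at h1
    have := natDegree_pos_of_supp hj
    omega
  · rw [Function.update_of_ne hi]

theorem detT_scale (t : T F n n) (j : Fin n) (hj : j ∈ supp t.1) (l : Fˣ) :
    detT (scale t j hj l).1 = (l : F) ^ ((j : ℕ) + 1) * detT t.1 := by
  classical
  rw [detT, detT, ← Finset.mul_prod_erase _ _ (Finset.mem_univ j),
    ← Finset.mul_prod_erase _ (fun i => ((-1 : F) ^ (t.1 i).natDegree * (t.1 i).coeff 0) ^ ((i : ℕ) + 1))
      (Finset.mem_univ j)]
  rw [Finset.prod_congr rfl fun i hi => by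
    show ((-1 : F) ^ ((scale t j hj l).1 i).natDegree * ((scale t j hj l).1 i).coeff 0) ^ ((i : ℕ) + 1) =
      ((-1 : F) ^ (t.1 i).natDegree * (t.1 i).coeff 0) ^ ((i : ℕ) + 1)
    rw [show (scale t j hj l).1 i = t.1 i from Function.update_of_ne (Finset.ne_of_mem_erase hi) ..]]
  rw [show (scale t j hj l).1 j = t.1 j + C (((l : F) - 1) * (t.1 j).coeff 0) from
      Function.update_self .., natDegree_add_C, coeff_add, coeff_C_zero,
    show (t.1 j).coeff 0 + ((l : F) - 1) * (t.1 j).coeff 0 = (l : F) * (t.1 j).coeff 0 by ring,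
    ← mul_assoc]
  simp only [mul_pow]
  ring

theorem stable_scale {P : T F n n → Prop} (hP : Stable P) (t : T F n n) (ht : P t) (j : Fin n)
    (hj : j ∈ supp t.1) (l : Fˣ) : P (scale t j hj l) := by
  refine hP t _ ht fun i k hk => ?_
  show (Function.update t.1 j (t.1 j + C (((l : F) - 1) * (t.1 j).coeff 0)) i).coeff k = _
  by_cases hi : i = j
  · rw [hi, Function.update_self, coeff_add, coeff_C, if_neg hk, add_zero]
  · rw [Function.update_of_ne hi]

theorem mem_of_gcd {G : Type*} [Group G] (H : Subgroup G) (c : G) {a b : ℕ} (ha : c ^ a ∈ H)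
    (hb : c ^ b ∈ H) : c ^ Nat.gcd a b ∈ H := by
  have : c ^ (Nat.gcd a b : ℤ) ∈ H := by
    rw [Nat.gcd_eq_gcd_ab, zpow_add, zpow_mul, zpow_mul, zpow_natCast, zpow_natCast]
    exact mul_mem (zpow_mem ha _) (zpow_mem hb _)
  exact_mod_cast this

theorem mem_of_finset_gcd {G ι : Type*} [Group G] (H : Subgroup G) (c : G) (E : Finset ι) (f : ι → ℕ)
    (h : ∀ i ∈ E, c ^ f i ∈ H) : c ^ E.gcd f ∈ H := by
  classical
  induction E using Finset.induction_on with
  | empty => simp
  | insert i E hi ih =>
    rw [Finset.gcd_insert]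
    exact mem_of_gcd H c (h i (Finset.mem_insert_self _ _))
      (ih fun k hk => h k (Finset.mem_insert_of_mem hk))

theorem sum_gam_det_one_le (P : T F n n → Prop) [DecidablePred P] [DecidableEq F] (hP : Stable P) :
    (Fintype.card F - 1) * ∑ t ∈ Finset.univ.filter (fun t : T F n n => P t ∧ detT t.1 = 1), gam t.1 ≤
      ∑ t ∈ Finset.univ.filter (fun t : T F n n => P t), gam t.1 ^ 2 := by
  classical
  rw [← Finset.sum_fiberwise (Finset.univ.filter fun t : T F n n => P t ∧ detT t.1 = 1)
      (fun t => supp t.1) (fun t => gam t.1), Finset.mul_sum,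
    ← Finset.sum_fiberwise (Finset.univ.filter fun t : T F n n => P t)
      (fun t => supp t.1) (fun t => gam t.1 ^ 2)]
  refine Finset.sum_le_sum fun E _ => ?_
  -- the sequences with exponent set `E` and given determinant
  let S : Fˣ → Finset (T F n n) := fun v =>
    Finset.univ.filter fun t => P t ∧ supp t.1 = E ∧ detT t.1 = (v : F)
  set γ := Nat.gcd (Fintype.card F - 1) (E.gcd fun j => (j : ℕ) + 1) with hγ
  have hγpos : 0 < γ := Nat.gcd_pos_of_pos_left _ (by have := Fintype.one_lt_card (α := F); omega)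
  have hle : ∀ (j : Fin n), j ∈ E → ∀ (l v : Fˣ), (S v).card ≤ (S (l ^ ((j : ℕ) + 1) * v)).card := by
    intro j hjE l v
    have hjs : ∀ t ∈ S v, j ∈ supp t.1 := fun t ht => by
      rw [(Finset.mem_filter.1 ht).2.2.1]; exact hjE
    refine Finset.card_le_card_of_injOn
      (fun t => if h : j ∈ supp t.1 then scale t j h l else t) ?_ ?_
    · intro t ht
      obtain ⟨-, hPt, hst, hdt⟩ := Finset.mem_filter.1 ht
      simp only [dif_pos (hjs t ht), S, Finset.coe_filter, Set.mem_setOf_eq, Finset.mem_univ, true_and]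
      exact ⟨stable_scale hP t hPt j _ l, by rw [supp_scale, hst],
        by rw [detT_scale, hdt, Units.val_mul, Units.val_pow_eq_pow_val]⟩
    · intro t ht t' ht' h
      simp only [dif_pos (hjs t ht), dif_pos (hjs t' ht')] at h
      refine Subtype.ext (funext fun i => ?_)
      have hi := congrFun (congrArg Subtype.val h) i
      by_cases hij : i = j
      · subst hij
        have e1 : t.1 i + C (((l : F) - 1) * (t.1 i).coeff 0) =
            t'.1 i + C (((l : F) - 1) * (t'.1 i).coeff 0) := by
          simpa [scale] using hi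
        have e0 := congrArg (fun f : F[X] => f.coeff 0) e1
        simp only [coeff_add, coeff_C_zero] at e0
        have ec : (t.1 i).coeff 0 = (t'.1 i).coeff 0 :=
          mul_left_cancel₀ l.ne_zero (by linear_combination e0)
        rw [ec] at e1
        exact add_right_cancel e1
      · simpa [scale, Function.update_of_ne hij] using hi
  let H : Subgroup Fˣ :=
    { carrier := {c | ∀ v, (S (c * v)).card = (S v).card}
      mul_mem' := fun {a b} ha hb v => by rw [mul_assoc, ha, hb]
      one_mem' := fun v => by rw [one_mul]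
      inv_mem' := fun {a} ha v => by
        have := ha (a⁻¹ * v)
        rw [← mul_assoc, mul_inv_cancel, one_mul] at this
        exact this.symm }
  have hgen : ∀ j ∈ E, ∀ l : Fˣ, l ^ ((j : ℕ) + 1) ∈ H := fun j hj l v => by
    refine le_antisymm ?_ (hle j hj l v)
    have h1 := hle j hj l⁻¹ (l ^ ((j : ℕ) + 1) * v)
    rwa [inv_pow, ← mul_assoc, inv_mul_cancel, one_mul] at h1
  have hpow : (powMonoidHom γ : Fˣ →* Fˣ).range ≤ H := by
    rintro _ ⟨c, rfl⟩
    show c ^ γ ∈ H
    refine mem_of_gcd H c ?_ (mem_of_finset_gcd H c E _ fun j hj => hgen j hj c)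
    rw [← Fintype.card_units, pow_card_eq_one]
    exact one_mem _
  let D := (powMonoidHom γ : Fˣ →* Fˣ).range
  have hD : Nat.card D * γ = Fintype.card F - 1 := by
    have h1 := Subgroup.card_eq_card_quotient_mul_card_subgroup (powMonoidHom γ : Fˣ →* Fˣ).ker
    rw [Nat.card_congr (QuotientGroup.quotientKerEquivRange _).toEquiv, IsCyclic.card_powMonoidHom_ker,
      Nat.card_units, Nat.card_eq_fintype_card (α := F),
      Nat.gcd_eq_right (Nat.gcd_dvd_left _ _)] at h1
    exact h1.symm
  have htot : Nat.card D * (S 1).card ≤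
      (Finset.univ.filter fun t : T F n n => P t ∧ supp t.1 = E).card := by
    have h1 : ((D : Set Fˣ).toFinset.biUnion S).card = Nat.card D * (S 1).card := by
      rw [Finset.card_biUnion]
      · have hall : ∀ v ∈ (D : Set Fˣ).toFinset, (S v).card = (S 1).card := fun v hv => by
          rw [Set.mem_toFinset] at hv
          have := hpow hv 1
          rwa [mul_one] at this
        rw [Finset.sum_const_nat hall, ← Nat.card_eq_card_toFinset (D : Set Fˣ)]
        rfl
      · intro a _ b _ hab
        rw [Function.onFun, Finset.disjoint_left]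
        intro t ha hb
        exact hab (Units.ext ((Finset.mem_filter.1 ha).2.2.2.symm.trans (Finset.mem_filter.1 hb).2.2.2))
    rw [← h1]
    refine Finset.card_le_card fun t ht => ?_
    obtain ⟨v, -, hv⟩ := Finset.mem_biUnion.1 ht
    obtain ⟨-, hPt, hst, -⟩ := Finset.mem_filter.1 hv
    exact Finset.mem_filter.2 ⟨Finset.mem_univ _, hPt, hst⟩
  rw [Finset.filter_filter, Finset.filter_filter,
    Finset.sum_const_nat (m := γ) fun t ht => by
      rw [gam, (Finset.mem_filter.1 ht).2.2],
    Finset.sum_const_nat (m := γ ^ 2) fun t ht => by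
      rw [gam, (Finset.mem_filter.1 ht).2.2]]
  have hS1 : (Finset.univ.filter fun t : T F n n => (P t ∧ detT t.1 = 1) ∧ supp t.1 = E).card =
      (S 1).card := by
    refine congrArg Finset.card (Finset.filter_congr fun t _ => ?_)
    simp only [Units.val_one]
    tauto
  rw [hS1, ← hD]
  calc Nat.card D * γ * ((S 1).card * γ) = Nat.card D * (S 1).card * γ ^ 2 := by ring
    _ ≤ _ := Nat.mul_le_mul_right _ htot

/-- The weighted count. -/
noncomputable def Phi (F : Type u) [Field F] [Fintype F] (n : ℕ) : ℕ :=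
  ∑ t : T F n n, gam t.1 ^ 2

/-- The extra weight. -/
def extra (q n : ℕ) : ℕ :=
  ∑ h ∈ ((Nat.gcd n (q - 1)).divisors.erase 1), (h ^ 2 - 1) * kk q (n / h) (n / h)

theorem sum_shift {M : Type*} [AddCommMonoid M] {k N : ℕ} (e : Fin k → Fin N)
    (he : Function.Injective e) (f : Fin N → M) (h : ∀ j, (∀ i, e i ≠ j) → f j = 0) :
    ∑ i, f (e i) = ∑ j, f j := by
  classical
  rw [← Finset.sum_image (s := Finset.univ) (g := e) fun a _ b _ hab => he hab]
  refine Finset.sum_subset (Finset.subset_univ _) fun j _ hj => h j fun i e' => hj ?_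
  exact Finset.mem_image.2 ⟨i, Finset.mem_univ i, e'⟩

theorem Phi_le (hn : 1 ≤ n) :
    Phi F n ≤ kk (Fintype.card F) n n + extra (Fintype.card F) n := by
  classical
  set q := Fintype.card F
  have hT : Fintype.card (T F n n) ≤ kk q n n := by
    rw [← Nat.card_eq_fintype_card]; exact (card_T F n n).2
  refine le_trans (b := ∑ t : T F n n, (1 + ∑ h ∈ (Nat.gcd n (q - 1)).divisors.erase 1,
      if h ∣ (supp t.1).gcd (fun j => (j : ℕ) + 1) then h ^ 2 - 1 else 0)) ?_ ?_
  · refine Finset.sum_le_sum fun t _ => ?_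
    by_cases h1 : gam t.1 = 1
    · rw [h1]; simp
    · have hmem : gam t.1 ∈ (Nat.gcd n (q - 1)).divisors.erase 1 :=
        Finset.mem_erase.2 ⟨h1, Nat.mem_divisors.2
          ⟨Nat.dvd_gcd (gam_dvd_weight t) (gam_dvd_sub_one _), by
            have : 0 < Nat.gcd n (q - 1) := Nat.gcd_pos_of_pos_left _ hn
            omega⟩⟩
      refine le_trans ?_ (Nat.add_le_add_left (Finset.single_le_sum (fun _ _ => Nat.zero_le _) hmem) 1)
      rw [if_pos (show gam t.1 ∣ _ from Nat.gcd_dvd_right _ _)]
      have := pow_pos (gam_pos t.1) 2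
      omega
  · rw [Finset.sum_add_distrib, Finset.sum_const, Finset.card_univ, smul_eq_mul, mul_one,
      Finset.sum_comm, extra]
    refine Nat.add_le_add hT (Finset.sum_le_sum fun h hh => ?_)
    obtain ⟨hh1, hh2⟩ := Finset.mem_erase.1 hh
    have hhn : h ∣ n := (Nat.dvd_of_mem_divisors hh2).trans (Nat.gcd_dvd_left _ _)
    have hpos : 0 < h := Nat.pos_of_dvd_of_pos hhn hn
    rw [← Finset.sum_filter, Finset.sum_const, smul_eq_mul, mul_comm]
    refine Nat.mul_le_mul_left _ ?_
    haveI := (card_T F (n / h) (n / h)).1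
    refine le_trans ?_ (card_T F (n / h) (n / h)).2
    obtain ⟨k, rfl⟩ := hhn
    rw [Nat.mul_div_cancel_left k hpos]
    let e : Fin k → Fin (h * k) := fun i => ⟨h * (i + 1) - 1, by
      have h1 : h * ((i : ℕ) + 1) ≤ h * k := Nat.mul_le_mul le_rfl i.2
      have : 0 < h * ((i : ℕ) + 1) := Nat.mul_pos hpos (Nat.succ_pos _)
      omega⟩
    have he : ∀ i, ((e i : Fin (h * k)) : ℕ) + 1 = h * (i + 1) := fun i => by
      have : 0 < h * ((i : ℕ) + 1) := Nat.mul_pos hpos (Nat.succ_pos _)
      show h * (i + 1) - 1 + 1 = _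
      omega
    have heinj : Function.Injective e := fun a b hab => by
      have h1 := he a
      rw [hab, he b] at h1
      exact Fin.ext (by have := Nat.eq_of_mul_eq_mul_left hpos h1; omega)
    have hcover : ∀ t : T F (h * k) (h * k), h ∣ (supp t.1).gcd (fun j => (j : ℕ) + 1) →
        ∀ j, (∀ i, e i ≠ j) → t.1 j = 1 := by
      intro t ht j hj
      by_contra hne
      obtain ⟨c, hc⟩ := ht.trans (Finset.gcd_dvd (mem_supp.2 hne))
      have hc0 : 0 < c := Nat.pos_of_ne_zero fun e0 => by rw [e0, mul_zero] at hc; omega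
      have hck : c ≤ k := Nat.le_of_mul_le_mul_left (by rw [← hc]; exact j.2) hpos
      refine hj ⟨c - 1, by omega⟩ (Fin.ext ?_)
      have h1 := he ⟨c - 1, by omega⟩
      simp only [Nat.sub_add_cancel hc0] at h1
      omega
    let f : {t : T F (h * k) (h * k) // h ∣ (supp t.1).gcd (fun j => (j : ℕ) + 1)} → T F k k :=
      fun t => ⟨fun i => t.1.1 (e i), fun i => t.1.2.1 (e i), by
        apply Nat.eq_of_mul_eq_mul_left hpos
        rw [Finset.mul_sum, Finset.sum_congr rfl fun i _ => by
          show h * (((i : ℕ) + 1) * (t.1.1 (e i)).natDegree) =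
            (fun j : Fin (h * k) => ((j : ℕ) + 1) * (t.1.1 j).natDegree) (e i)
          simp only [he]; ring,
          sum_shift e heinj (fun j : Fin (h * k) => ((j : ℕ) + 1) * (t.1.1 j).natDegree) fun j hj => by
            simp [hcover t.1 t.2 j hj]]
        exact t.1.2.2⟩
    have hf : Function.Injective f := fun t t' htt => by
      refine Subtype.ext (Subtype.ext (funext fun j => ?_))
      by_cases hj : ∃ i, e i = j
      · obtain ⟨i, rfl⟩ := hj
        exact congrFun (congrArg Subtype.val htt) i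
      · simp only [not_exists] at hj
        rw [hcover t.1 t.2 j hj, hcover t'.1 t'.2 j hj]
    rw [← Fintype.card_subtype, ← Nat.card_eq_fintype_card]
    exact Nat.card_le_card_of_injective f hf

/-- Scaling the roots by a root of unity of order `h` fixes only polynomials in `X ^ h`. -/
theorem sum_fixed_le {z : Fˣ} {h k : ℕ} (hz : orderOf z = h) (hn : n = h * k) [DecidableEq F]
    [DecidablePred fun t : T F n n => ∀ j, ((t.1 j).scaleRoots (z : F)) = t.1 j] :
    ∑ t ∈ Finset.univ.filter (fun t : T F n n => ∀ j, ((t.1 j).scaleRoots (z : F)) = t.1 j),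
      gam t.1 ^ 2 ≤ Phi F k := by
  classical
  have hh : 0 < h := hz ▸ orderOf_pos z
  have hzpow : ∀ i, (z : F) ^ i = 1 ↔ h ∣ i := fun i => by
    rw [← Units.val_pow_eq_pow_val, Units.val_eq_one, ← hz, orderOf_dvd_iff_pow_eq_one]
  have hfix : ∀ t : T F n n, (∀ j, ((t.1 j).scaleRoots (z : F)) = t.1 j) → ∀ j,
      expand F h (contract h (t.1 j)) = t.1 j := by
    intro t ht j
    ext i
    rw [coeff_expand hh, coeff_contract hh.ne']
    have key : ∀ i, (t.1 j).coeff i ≠ 0 → h ∣ (t.1 j).natDegree - i := fun i hi => by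
      have h1 := congrArg (fun f : F[X] => f.coeff i) (ht j)
      simp only [coeff_scaleRoots] at h1
      rw [← hzpow]
      exact mul_left_cancel₀ hi (h1.trans (mul_one _).symm)
    have hd : h ∣ (t.1 j).natDegree := by simpa using key 0 (coeff_ne_zero t j)
    split_ifs with hi
    · rw [Nat.div_mul_cancel hi]
    · by_contra hne
      apply hi
      have hle := le_natDegree_of_ne_zero (Ne.symm hne)
      have := key i (Ne.symm hne)
      exact (Nat.dvd_sub_iff_right hle hd).1 this
  have hdeg : ∀ t : T F n n, (∀ j, ((t.1 j).scaleRoots (z : F)) = t.1 j) → ∀ j,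
      (contract h (t.1 j)).natDegree * h = (t.1 j).natDegree := fun t ht j => by
    rw [← natDegree_expand, hfix t ht j]
  have hlt : ∀ t : T F n n, (∀ j, ((t.1 j).scaleRoots (z : F)) = t.1 j) →
      ∀ j : Fin n, k ≤ (j : ℕ) → t.1 j = 1 := by
    intro t ht j hj
    by_contra hne
    have hpos := natDegree_pos_of_supp (mem_supp.2 hne)
    rw [← hdeg t ht j] at hpos
    have h1 : ((j : ℕ) + 1) * (t.1 j).natDegree ≤ n := by
      conv_rhs => rw [← t.2.2]
      exact Finset.single_le_sum (f := fun j : Fin n => ((j : ℕ) + 1) * (t.1 j).natDegree)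
        (fun _ _ => Nat.zero_le _) (Finset.mem_univ j)
    rw [← hdeg t ht j] at h1
    have h2 : h ≤ (contract h (t.1 j)).natDegree * h :=
      Nat.le_mul_of_pos_left h (Nat.pos_of_mul_pos_right hpos)
    have h3 : (k + 1) * h ≤ ((j : ℕ) + 1) * ((contract h (t.1 j)).natDegree * h) :=
      Nat.mul_le_mul (by omega) h2
    have : (k + 1) * h = n + h := by rw [hn]; ring
    omega
  have hkn : k ≤ n := hn ▸ Nat.le_mul_of_pos_left k hh
  let e : Fin k → Fin n := fun i => ⟨i, lt_of_lt_of_le i.2 hkn⟩
  have heinj : Function.Injective e := fun a b hab => by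
    have := congrArg Fin.val hab
    exact Fin.ext this
  let f : {t : T F n n // ∀ j, ((t.1 j).scaleRoots (z : F)) = t.1 j} → T F k k := fun t =>
    ⟨fun i => contract h (t.1.1 (e i)), fun i => ⟨(monic_expand_iff hh).1 (by
        rw [hfix t.1 t.2]; exact (t.1.2.1 _).1), by
        rw [coeff_contract hh.ne', zero_mul]; exact coeff_ne_zero t.1 _⟩, by
      apply Nat.eq_of_mul_eq_mul_left hh
      rw [Finset.mul_sum, Finset.sum_congr rfl fun i _ => by
        show h * (((i : ℕ) + 1) * (contract h (t.1.1 (e i))).natDegree) =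
          (fun j : Fin n => ((j : ℕ) + 1) * (t.1.1 j).natDegree) (e i)
        show _ = ((i : ℕ) + 1) * (t.1.1 (e i)).natDegree
        rw [← hdeg t.1 t.2 (e i)]; ring,
        sum_shift e heinj (fun j : Fin n => ((j : ℕ) + 1) * (t.1.1 j).natDegree) fun j hj => by
          by_cases hjk : (j : ℕ) < k
          · exact absurd (Fin.ext rfl) (hj ⟨j, hjk⟩)
          · simp [hlt t.1 t.2 j (by omega)]]
      exact t.1.2.2.trans hn⟩
  have hf : Function.Injective f := fun t t' htt => by
    refine Subtype.ext (Subtype.ext (funext fun j => ?_))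
    by_cases hjk : (j : ℕ) < k
    · have h1 := congrArg (expand F h) (congrFun (congrArg Subtype.val htt) ⟨j, hjk⟩)
      simp only [f] at h1
      rw [hfix t.1 t.2, hfix t'.1 t'.2] at h1
      exact h1
    · rw [hlt t.1 t.2 j (by omega), hlt t'.1 t'.2 j (by omega)]
  have hgam : ∀ t : {t : T F n n // ∀ j, ((t.1 j).scaleRoots (z : F)) = t.1 j},
      gam (f t).1 = gam t.1.1 := by
    intro t
    have hsupp : ∀ i : Fin k, i ∈ supp (f t).1 ↔ e i ∈ supp t.1.1 := fun i => by
      rw [mem_supp, mem_supp]
      refine not_congr ⟨fun h1 => ?_, fun h1 => ?_⟩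
      · rw [← hfix t.1 t.2 (e i), show contract h (t.1.1 (e i)) = 1 from h1, map_one]
      · show contract h (t.1.1 (e i)) = 1
        rw [h1, ← C_1, contract_C]
    unfold gam
    congr 1
    refine Nat.dvd_antisymm (Finset.dvd_gcd fun j hj => ?_) (Finset.dvd_gcd fun i hi => ?_)
    · by_cases hjk : (j : ℕ) < k
      · exact Finset.gcd_dvd (f := fun i : Fin k => (i : ℕ) + 1) ((hsupp ⟨j, hjk⟩).2 hj)
      · exact absurd (hlt t.1 t.2 j (by omega)) (mem_supp.1 hj)
    · exact Finset.gcd_dvd (f := fun j : Fin n => (j : ℕ) + 1) ((hsupp i).1 hi)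
  rw [← Finset.sum_subtype_eq_sum_filter, Finset.subtype_univ]
  rw [Finset.sum_congr rfl fun t _ => by rw [← hgam t]]
  rw [← Finset.sum_image (f := fun s : T F k k => gam s.1 ^ 2) fun a _ b _ hab => hf hab]
  exact Finset.sum_le_sum_of_subset (Finset.subset_univ _)

end Cfsg.Agent.Lib.ClassesSL
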