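import Cfsg.Agent.Lib.ClassesGLBound

/-!
Determinants of the centraliser of a matrix, from its elementary divisors: if `f ^ e` occurs then
every `e`-th power is the determinant of a commuting automorphism.
-/

set_option autoImplicit false
set_option linter.unusedSectionVars false
set_option linter.style.haveILetI false

namespace Cfsg.Agent.Lib.ClassesSL

open Polynomial Module
open Cfsg.Agent.Lib.ClassesGLBound

universe u

theorem det_piMap {R : Type*} [Field R] {ι : Type*} [Fintype ι] {M : ι → Type*}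
    [∀ i, AddCommGroup (M i)] [∀ i, Module R (M i)] [∀ i, FiniteDimensional R (M i)]
    (f : ∀ i, M i →ₗ[R] M i) :
    LinearMap.det (LinearMap.pi fun i => (f i).comp (LinearMap.proj i)) =
      ∏ i, LinearMap.det (f i) := by
  classical
  letI ord : LinearOrder ι := LinearOrder.lift' (Fintype.equivFin ι) (Fintype.equivFin ι).injective
  let b := fun i => Module.Free.chooseBasis R (M i)
  let B := Pi.basis b
  have : LinearMap.toMatrix B B (LinearMap.pi fun i => (f i).comp (LinearMap.proj i)) =
      Matrix.blockDiagonal' fun i => LinearMap.toMatrix (b i) (b i) (f i) := by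
    ext ⟨i₁, i₂⟩ ⟨j₁, j₂⟩
    rw [LinearMap.toMatrix_apply', Matrix.blockDiagonal'_apply]
    simp only [B, Pi.basis_apply, Pi.basis_repr, LinearMap.pi_apply, LinearMap.coe_comp,
      Function.comp_apply, LinearMap.coe_proj, Function.eval]
    by_cases h : i₁ = j₁
    · subst h
      rw [Pi.single_eq_same, dif_pos rfl, LinearMap.toMatrix_apply']
      rfl
    · rw [dif_neg h, Pi.single_eq_of_ne h, map_zero, map_zero, Finsupp.coe_zero, Pi.zero_apply]
  rw [← LinearMap.det_toMatrix B, this, (Matrix.blockTriangular_blockDiagonal' _).det_fintype]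
  refine Finset.prod_congr rfl fun i _ => ?_
  rw [← LinearMap.det_toMatrix (b i)]
  let e : Free.ChooseBasisIndex R (M i) ≃
      {x : Σ j, Free.ChooseBasisIndex R (M j) // x.1 = i} :=
    (Equiv.sigmaSubtype (β := fun j => Free.ChooseBasisIndex R (M j)) i).symm
  rw [← Matrix.det_submatrix_equiv_self e]
  congr 1
  ext k l
  simp only [Matrix.submatrix_apply, Matrix.toSquareBlock_def, e, Equiv.sigmaSubtype,
    Equiv.coe_fn_symm_mk]
  exact Matrix.blockDiagonal'_apply_eq (fun j => LinearMap.toMatrix (b j) (b j) (f j)) i k l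

variable {F : Type u} [Field F] [Fintype F]

instance finite_Q (k : ℕ × F[X]) [hk : Fact (k.2.Monic)] : FiniteDimensional F (Q k) :=
  (hk.out.pow k.1).finite_quotient

/-- The determinant of multiplication by `X` on a cyclic module. -/
theorem det_mulX {e : ℕ} {f : F[X]} (hf : f.Monic) (he : 1 ≤ e) (hd : 0 < f.natDegree) :
    LinearMap.det ((LinearMap.lsmul F[X] (Q (e, f)) X).restrictScalars F) =
      ((-1) ^ f.natDegree * f.coeff 0) ^ e := by
  have hne : f ^ e ≠ 0 := pow_ne_zero _ hf.ne_zero
  let pb := AdjoinRoot.powerBasis hne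
  have h1 : ((LinearMap.lsmul F[X] (Q (e, f)) X).restrictScalars F) =
      Algebra.lmul F (AdjoinRoot (f ^ e)) (AdjoinRoot.root (f ^ e)) := by
    refine LinearMap.ext fun x => ?_
    obtain ⟨x, rfl⟩ := Ideal.Quotient.mk_surjective x
    rfl
  rw [h1]
  refine (Algebra.norm_apply F (AdjoinRoot.root (f ^ e))).symm.trans ?_
  have h2 := Algebra.PowerBasis.norm_gen_eq_coeff_zero_minpoly pb
  rw [show pb.gen = AdjoinRoot.root (f ^ e) from AdjoinRoot.powerBasis_gen hne] at h2
  rw [h2, show minpoly F (AdjoinRoot.root (f ^ e)) = f ^ e from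
    by rw [← AdjoinRoot.powerBasis_gen hne]; exact AdjoinRoot.minpoly_powerBasis_gen_of_monic (hf.pow e)]
  rw [AdjoinRoot.powerBasis_dim hne, natDegree_pow, coeff_zero_eq_eval_zero, eval_pow,
    ← coeff_zero_eq_eval_zero, mul_pow, ← pow_mul, mul_comm e]

/-- Every `e`-th power is the determinant of a unit of the cyclic module. -/
theorem exists_unit_det {e : ℕ} {f : F[X]} (hf : f.Monic) (hirr : Irreducible f) (he : 1 ≤ e)
    (c : Fˣ) : ∃ u : (Q (e, f))ˣ,
      LinearMap.det (Algebra.lmul F (Q (e, f)) (u : Q (e, f))) = (c : F) ^ e := by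
  classical
  obtain ⟨p, hp⟩ := CharP.exists F
  haveI : Fact p.Prime := ⟨CharP.char_is_prime F p⟩
  haveI : Fact (Irreducible f) := ⟨hirr⟩
  haveI : Module.Finite F (AdjoinRoot f) := (AdjoinRoot.powerBasis hf.ne_zero).finite
  haveI : Finite (AdjoinRoot f) := Module.finite_of_finite F
  haveI : Fact ((e, f).2.Monic) := ⟨hf⟩
  haveI : Module.Finite F (Q (e, f)) := (hf.pow e).finite_quotient
  -- a root of `f` in the quotient
  let J : Ideal F[X] := Ideal.span {f ^ e}
  let y : Q (e, f) := Ideal.Quotient.mk J (X ^ Fintype.card F ^ e)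
  have hy : aeval y f = 0 := by
    have h1 : aeval y f = Ideal.Quotient.mk J (expand F (Fintype.card F ^ e) f) := by
      rw [show expand F (Fintype.card F ^ e) f = aeval (X ^ Fintype.card F ^ e : F[X]) f by
        rw [expand_eq_comp_X_pow]; rfl, ← Ideal.Quotient.mkₐ_eq_mk F, ← aeval_algHom_apply]
      rfl
    have h2 : ∀ j, expand F (Fintype.card F ^ j) f = f ^ (Fintype.card F ^ j) := by
      intro j
      induction j with
      | zero => simp
      | succ j ih => rw [pow_succ', expand_mul, ih, map_pow, FiniteField.expand_card, ← pow_mul]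
    rw [h1, h2, Ideal.Quotient.eq_zero_iff_mem, Ideal.mem_span_singleton]
    exact pow_dvd_pow _ (Nat.lt_pow_self Fintype.one_lt_card).le
  let ι : AdjoinRoot f →ₐ[F] Q (e, f) := AdjoinRoot.liftAlgHom f (Algebra.ofId F _) y hy
  letI : Algebra (AdjoinRoot f) (Q (e, f)) := ι.toRingHom.toAlgebra
  haveI : IsScalarTower F (AdjoinRoot f) (Q (e, f)) :=
    IsScalarTower.of_algebraMap_eq fun x => (ι.commutes x).symm
  haveI : Module.Finite (AdjoinRoot f) (Q (e, f)) := Module.Finite.of_restrictScalars_finite F _ _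
  haveI : Nontrivial (Q (e, f)) := Ideal.Quotient.nontrivial_iff.2 (by
    rw [ne_eq, Ideal.span_singleton_eq_top, isUnit_pow_iff (by omega)]
    exact hirr.not_isUnit)
  have hrank : finrank (AdjoinRoot f) (Q (e, f)) = e := by
    have h1 := Module.finrank_mul_finrank F (AdjoinRoot f) (Q (e, f))
    rw [(AdjoinRoot.powerBasis hf.ne_zero).finrank, AdjoinRoot.powerBasis_dim,
      show finrank F (Q (e, f)) = (f ^ e).natDegree from finrank_quotient_span_eq_natDegree,
      natDegree_pow, mul_comm e] at h1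
    exact Nat.eq_of_mul_eq_mul_left hirr.natDegree_pos h1
  obtain ⟨k, hk⟩ := FiniteField.norm_surjective F (AdjoinRoot f) (c : F)
  have hk0 : k ≠ 0 := by
    rintro rfl
    rw [Algebra.norm_zero] at hk
    exact c.ne_zero hk.symm
  refine ⟨Units.map (algebraMap (AdjoinRoot f) (Q (e, f))).toMonoidHom (Units.mk0 k hk0), ?_⟩
  rw [← Algebra.norm_apply]
  show Algebra.norm F (algebraMap (AdjoinRoot f) (Q (e, f)) k) = _
  rw [← Algebra.norm_norm (S := AdjoinRoot f), Algebra.norm_algebraMap, map_pow, hk, hrank]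

variable {n : ℕ}

/-- The determinant attached to a sequence. -/
noncomputable def detT (t : Fin n → F[X]) : F :=
  ∏ j : Fin n, ((-1) ^ (t j).natDegree * (t j).coeff 0) ^ ((j : ℕ) + 1)

theorem detT_tup {ι : Type*} [Fintype ι] {key : ι → ℕ × F[X]}
    (h : ∀ i, 1 ≤ (key i).1 ∧ Irreducible (key i).2 ∧ (key i).2.Monic ∧ (key i).2.coeff 0 ≠ 0)
    (hn : ∑ i, (key i).1 * (key i).2.natDegree = n) :
    detT (tup key n) = ∏ i, ((-1) ^ (key i).2.natDegree * (key i).2.coeff 0) ^ (key i).1 := by
  classical
  rw [← Finset.prod_fiberwise Finset.univ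
    (fun i => (⟨(key i).1 - 1, by have := exp_le h hn i; have := (h i).1; omega⟩ : Fin n))
    (fun i => ((-1) ^ (key i).2.natDegree * (key i).2.coeff 0) ^ (key i).1)]
  refine Finset.prod_congr rfl fun j _ => ?_
  rw [tup, natDegree_prod_of_monic _ _ fun i _ => (h i).2.2.1, coeff_zero_eq_eval_zero, eval_prod,
    ← Finset.prod_pow_eq_pow_sum, ← Finset.prod_mul_distrib, ← Finset.prod_pow]
  refine Finset.prod_congr ?_ fun i hi => ?_
  · refine Finset.filter_congr fun i _ => ?_
    have := (h i).1
    simp only [Fin.ext_iff]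
    omega
  · simp only [Finset.mem_filter, Fin.ext_iff] at hi
    have := (h i).1
    rw [coeff_zero_eq_eval_zero, show (j : ℕ) + 1 = (key i).1 by omega]

end Cfsg.Agent.Lib.ClassesSL
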