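import Cfsg.Agent.Lib.ClassesSL.Det

/-!
The sequence of products of elementary divisors as an invariant of a matrix: it is determined by
kernel dimensions, determines the conjugacy class, and is compatible with scalar multiples.
-/

set_option autoImplicit false
set_option linter.unusedSectionVars false
set_option linter.style.haveILetI false

namespace Cfsg.Agent.Lib.ClassesSL

open Polynomial Module
open Cfsg.Agent.Lib.ClassesGLBound

universe u

variable {F : Type u} [Field F] [Fintype F] {n : ℕ}

/-! ### Kernels on cyclic modules -/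

theorem finite_Q' {e : ℕ} {f : F[X]} (hf : f.Monic) : Finite (Q (e, f)) :=
  haveI : Module.Finite F (Q (e, f)) := (hf.pow e).finite_quotient
  Module.finite_of_finite F

theorem card_Q {e : ℕ} {f : F[X]} (hf : f.Monic) :
    Nat.card (Q (e, f)) = Fintype.card F ^ (e * f.natDegree) := by
  haveI : Module.Finite F (Q (e, f)) := (hf.pow e).finite_quotient
  rw [Module.natCard_eq_pow_finrank (K := F), Nat.card_eq_fintype_card,
    show finrank F (Q (e, f)) = (f ^ e).natDegree from finrank_quotient_span_eq_natDegree,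
    natDegree_pow]

theorem card_ker_Q {e : ℕ} {f g : F[X]} (hg : Irreducible g) (hgm : g.Monic) (hf : Irreducible f)
    (hfm : f.Monic) (k : ℕ) [Decidable (g = f)] :
    Nat.card {x : Q (e, g) // (f ^ k) • x = 0} =
      Fintype.card F ^ (f.natDegree * if g = f then min k e else 0) := by
  by_cases hgf : g = f
  · subst hgf
    rw [if_pos rfl, mul_comm, ← card_Q (e := min k e) hfm]
    let J : Ideal F[X] := Ideal.span {g ^ min k e}
    let K : Ideal F[X] := Ideal.span {g ^ e}
    let μ : F[X] →ₗ[F[X]] Q (e, g) :=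
      (Submodule.mkQ K).comp (LinearMap.lsmul F[X] F[X] (g ^ (e - min k e)))
    have hμ : ∀ y, μ y = Ideal.Quotient.mk K (g ^ (e - min k e) * y) := fun y => rfl
    have hle : J ≤ LinearMap.ker μ := by
      intro y hy
      obtain ⟨c, rfl⟩ := Ideal.mem_span_singleton.1 hy
      rw [LinearMap.mem_ker, hμ, Ideal.Quotient.eq_zero_iff_mem, Ideal.mem_span_singleton,
        ← mul_assoc, ← pow_add, Nat.sub_add_cancel (min_le_right k e)]
      exact dvd_mul_right _ _
    let ν : Q (min k e, g) →ₗ[F[X]] Q (e, g) := Submodule.liftQ J μ hle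
    have hν : ∀ y, ν (Ideal.Quotient.mk J y) = Ideal.Quotient.mk K (g ^ (e - min k e) * y) :=
      fun y => rfl
    refine (Nat.card_eq_of_bijective (fun y => (⟨ν y, ?_⟩ : {x : Q (e, g) // (g ^ k) • x = 0}))
      ⟨?_, ?_⟩).symm
    · obtain ⟨y, rfl⟩ := Ideal.Quotient.mk_surjective y
      rw [hν]
      show Ideal.Quotient.mk K (g ^ k * (g ^ (e - min k e) * y)) = 0
      rw [Ideal.Quotient.eq_zero_iff_mem, Ideal.mem_span_singleton, ← mul_assoc, ← pow_add]
      exact Dvd.dvd.mul_right (pow_dvd_pow g (by omega)) _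
    · intro y y' h
      have h' : ν y = ν y' := congrArg Subtype.val h
      rw [← sub_eq_zero, ← map_sub] at h'
      rw [← sub_eq_zero]
      obtain ⟨z, hz⟩ := Ideal.Quotient.mk_surjective (y - y')
      rw [← hz, hν, Ideal.Quotient.eq_zero_iff_mem, Ideal.mem_span_singleton] at h'
      rw [← hz, Ideal.Quotient.eq_zero_iff_mem, Ideal.mem_span_singleton]
      rw [show g ^ e = g ^ (e - min k e) * g ^ min k e by
        rw [← pow_add, Nat.sub_add_cancel (min_le_right k e)]] at h'
      exact (mul_dvd_mul_iff_left (pow_ne_zero _ hgm.ne_zero)).1 h'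
    · rintro ⟨x, hx⟩
      obtain ⟨x, rfl⟩ := Ideal.Quotient.mk_surjective x
      have hx' : g ^ e ∣ g ^ k * x := by
        rw [← Ideal.mem_span_singleton, ← Ideal.Quotient.eq_zero_iff_mem]; exact hx
      have hdiv : g ^ (e - min k e) ∣ x := by
        rcases le_total k e with hk | hk
        · rw [min_eq_left hk]
          rw [show g ^ e = g ^ k * g ^ (e - k) by rw [← pow_add, Nat.add_sub_cancel' hk]] at hx'
          exact (mul_dvd_mul_iff_left (pow_ne_zero _ hgm.ne_zero)).1 hx'
        · rw [min_eq_right hk, Nat.sub_self, pow_zero]; exact one_dvd _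
      obtain ⟨c, rfl⟩ := hdiv
      exact ⟨Ideal.Quotient.mk J c, Subtype.ext (hν c)⟩
  · rw [if_neg hgf, mul_zero, pow_zero, Nat.card_eq_one_iff_unique]
    refine ⟨⟨fun x y => Subtype.ext ?_⟩, ⟨⟨0, smul_zero _⟩⟩⟩
    suffices h : ∀ z : Q (e, g), (f ^ k) • z = 0 → z = 0 by rw [h x x.2, h y y.2]
    intro z hz
    obtain ⟨z, rfl⟩ := Ideal.Quotient.mk_surjective z
    have hz' : g ^ e ∣ f ^ k * z := by
      rw [← Ideal.mem_span_singleton, ← Ideal.Quotient.eq_zero_iff_mem]; exact hz
    rw [Ideal.Quotient.eq_zero_iff_mem, Ideal.mem_span_singleton]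
    have hndvd : ¬ g ∣ f := fun hd =>
      hgf (eq_of_monic_of_associated hgm hfm (hg.associated_of_dvd hf hd))
    exact ((hg.coprime_iff_not_dvd.2 hndvd).pow).dvd_of_dvd_mul_left hz'

/-! ### Keys of a matrix -/

/-- The index type of the elementary divisors. -/
noncomputable def KI (A : GL (Fin n) F) : Type u := (exists_keys A).choose

noncomputable instance (A : GL (Fin n) F) : Fintype (KI A) := (exists_keys A).choose_spec.choose

/-- The elementary divisors. -/
noncomputable def keyOf (A : GL (Fin n) F) : KI A → ℕ × F[X] :=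
  (exists_keys A).choose_spec.choose_spec.choose

theorem keyOf_spec (A : GL (Fin n) F) :
    (∀ i, 1 ≤ (keyOf A i).1 ∧ Irreducible (keyOf A i).2 ∧ (keyOf A i).2.Monic ∧
      (keyOf A i).2.coeff 0 ≠ 0) ∧ ∑ i, (keyOf A i).1 * (keyOf A i).2.natDegree = n ∧
      Nonempty (Module.AEval' (Matrix.toLin' (A : Matrix (Fin n) (Fin n) F)) ≃ₗ[F[X]]
        (∀ i, Q (keyOf A i))) :=
  (exists_keys A).choose_spec.choose_spec.choose_spec

/-- The invariant. -/
noncomputable def invT (A : GL (Fin n) F) : T F n n :=
  ⟨tup (keyOf A) n, tup_mem (keyOf_spec A).1 (keyOf_spec A).2.1⟩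

/-- The number of solutions of `f(A)^k v = 0`. -/
noncomputable def kerCard (A : GL (Fin n) F) (f : F[X]) (k : ℕ) : ℕ :=
  Nat.card {v : Fin n → F // aeval (Matrix.toLin' (A : Matrix (Fin n) (Fin n) F)) (f ^ k) v = 0}

theorem kerCard_eq (A : GL (Fin n) F) {f : F[X]} (hf : Irreducible f) (hfm : f.Monic) (k : ℕ)
    [DecidableEq F] :
    kerCard A f k = Fintype.card F ^
      (f.natDegree * ∑ i, if (keyOf A i).2 = f then min k (keyOf A i).1 else 0) := by
  obtain ⟨hkey, -, ⟨φ⟩⟩ := keyOf_spec A
  set a := Matrix.toLin' (A : Matrix (Fin n) (Fin n) F) with ha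
  have e1 : {v : Fin n → F // aeval a (f ^ k) v = 0} ≃
      {x : ∀ i, Q (keyOf A i) // ∀ i, (f ^ k) • x i = 0} := by
    refine Equiv.subtypeEquiv ((Module.AEval'.of a).toEquiv.trans φ.toEquiv) fun v => ?_
    show _ ↔ ∀ i, ((f ^ k) • φ (Module.AEval'.of a v) i) = 0
    have e : φ (Module.AEval'.of a (aeval a (f ^ k) v)) = (f ^ k) • φ (Module.AEval'.of a v) := by
      rw [← map_smul]
      exact congrArg φ (Module.AEval.of_aeval_smul (R := F) (M := Fin n → F) a (f ^ k) v)
    constructor
    · intro h i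
      rw [← Pi.smul_apply, ← e, h, map_zero, map_zero]; rfl
    · intro h
      refine (Module.AEval'.of a).injective (φ.injective ?_)
      rw [e, map_zero, map_zero]
      exact funext h
  rw [kerCard, ← ha, Nat.card_congr e1, Nat.card_congr (Equiv.subtypePiEquivPi (p := fun i (y : Q (keyOf A i)) => (f ^ k) • y = 0)),
    Nat.card_pi, Finset.mul_sum, ← Finset.prod_pow_eq_pow_sum]
  exact Finset.prod_congr rfl fun i _ => card_ker_Q (hkey i).2.1 (hkey i).2.2.1 hf hfm k

/-- Kernel counts determine the multiplicity of each elementary divisor. -/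
theorem card_fibre_eq_of_kerCard [DecidableEq F] {A B : GL (Fin n) F} {f g : F[X]} (hf : Irreducible f) (hfm : f.Monic)
    (hg : Irreducible g) (hgm : g.Monic) (hd : f.natDegree = g.natDegree)
    (h : ∀ k, kerCard A f k = kerCard B g k) (e : ℕ) (he : 1 ≤ e) :
    Fintype.card {i // keyOf A i = (e, f)} = Fintype.card {i // keyOf B i = (e, g)} := by
  classical
  have hS : ∀ k, (∑ i, if (keyOf A i).2 = f then min k (keyOf A i).1 else 0) =
      ∑ i, if (keyOf B i).2 = g then min k (keyOf B i).1 else 0 := fun k => by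
    have h1 := h k
    rw [kerCard_eq A hf hfm, kerCard_eq B hg hgm, hd] at h1
    exact Nat.eq_of_mul_eq_mul_left hg.natDegree_pos (Nat.pow_right_injective Fintype.one_lt_card h1)
  have key : ∀ (C : GL (Fin n) F) (u : F[X]) (k : ℕ),
      (∑ i, if (keyOf C i).2 = u then min (k + 1) (keyOf C i).1 else 0) =
        (∑ i, if (keyOf C i).2 = u then min k (keyOf C i).1 else 0) +
          (Finset.univ.filter fun i => (keyOf C i).2 = u ∧ k + 1 ≤ (keyOf C i).1).card := by
    intro C u k
    rw [Finset.card_filter, ← Finset.sum_add_distrib]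
    refine Finset.sum_congr rfl fun i _ => ?_
    split_ifs with h1 h2 <;> (try simp_all) <;> omega
  have hge : ∀ k, (Finset.univ.filter fun i => (keyOf A i).2 = f ∧ k + 1 ≤ (keyOf A i).1).card =
      (Finset.univ.filter fun i => (keyOf B i).2 = g ∧ k + 1 ≤ (keyOf B i).1).card := fun k => by
    have a1 := key A f k; have a2 := key B g k; have a3 := hS k; have a4 := hS (k + 1)
    omega
  have split : ∀ (C : GL (Fin n) F) (u : F[X]),
      (Finset.univ.filter fun i => (keyOf C i).2 = u ∧ e ≤ (keyOf C i).1).card =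
        Fintype.card {i // keyOf C i = (e, u)} +
          (Finset.univ.filter fun i => (keyOf C i).2 = u ∧ e + 1 ≤ (keyOf C i).1).card := by
    intro C u
    rw [Fintype.card_subtype, ← Finset.card_union_of_disjoint]
    · congr 1
      ext i
      simp only [Finset.mem_filter, Finset.mem_univ, true_and, Finset.mem_union, Prod.ext_iff]
      constructor
      · rintro ⟨h1, h2⟩
        rcases eq_or_lt_of_le h2 with h3 | h3
        · exact Or.inl ⟨h3.symm, h1⟩
        · exact Or.inr ⟨h1, h3⟩
      · rintro (⟨h1, h2⟩ | ⟨h1, h2⟩) <;> exact ⟨by assumption, by omega⟩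
    · rw [Finset.disjoint_left]
      intro i h1 h2
      simp only [Finset.mem_filter, Finset.mem_univ, true_and, Prod.ext_iff] at h1 h2
      omega
  have b1 := split A f; have b2 := split B g
  have b3 := hge e; have b4 := hge (e - 1)
  rw [Nat.sub_add_cancel he] at b4
  omega

theorem invT_eq_iff_aux {A B : GL (Fin n) F} (h : invT A = invT B) : IsConj A B := by
  classical
  obtain ⟨σ, hσ⟩ := nonempty_equiv_of_tup (keyOf_spec A).1 (keyOf_spec B).1 (keyOf_spec A).2.1
    (keyOf_spec B).2.1 (congrArg Subtype.val h)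
  obtain ⟨φ⟩ := (keyOf_spec A).2.2
  obtain ⟨φ'⟩ := (keyOf_spec B).2.2
  let ψ := φ.trans ((LinearEquiv.piCongrRight fun i => Submodule.quotEquivOfEq _ _
      (by rw [hσ i])).trans ((LinearEquiv.piCongrLeft F[X] (fun i => Q (keyOf B i)) σ).trans φ'.symm))
  let e : (Fin n → F) ≃ₗ[F] (Fin n → F) :=
    ((Module.AEval'.of _).trans (ψ.restrictScalars F)).trans (Module.AEval'.of _).symm
  have he : ∀ v, e (Matrix.toLin' (A : Matrix (Fin n) (Fin n) F) v) =
      Matrix.toLin' (B : Matrix (Fin n) (Fin n) F) (e v) := fun v => by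
    show (Module.AEval'.of _).symm (ψ (Module.AEval'.of _ _)) = _
    refine ((congrArg (fun x => (Module.AEval'.of _).symm (ψ x))
      (Module.AEval'.X_smul_of _ v).symm).trans ?_)
    show (Module.AEval'.of _).symm (ψ ((X : F[X]) • _)) = _
    rw [map_smul, Module.AEval'.of_symm_X_smul]
    rfl
  obtain ⟨u, hu⟩ := JordanType.isConj_of_intertwine (A := (A : Matrix (Fin n) (Fin n) F))
    (B := (B : Matrix (Fin n) (Fin n) F)) e (fun v => by
      rw [map_sub, map_sub, Matrix.toLin'_one, LinearMap.sub_apply, LinearMap.sub_apply, map_sub, he]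
      rfl)
  exact ⟨toUnits u, Units.ext hu⟩

theorem kerCard_conj (A g : GL (Fin n) F) (f : F[X]) (k : ℕ) :
    kerCard (g * A * g⁻¹) f k = kerCard A f k := by
  let e : (Fin n → F) ≃ₗ[F] (Fin n → F) :=
    LinearMap.GeneralLinearGroup.generalLinearEquiv F _ (Matrix.GeneralLinearGroup.toLin g)
  have he : ∀ v, e v = Matrix.toLin' (g : Matrix (Fin n) (Fin n) F) v := fun v => rfl
  have hint : ∀ (f : F[X]) (v : Fin n → F),
      aeval (Matrix.toLin' ((g * A * g⁻¹ : GL (Fin n) F) : Matrix (Fin n) (Fin n) F)) f (e v) =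
        e (aeval (Matrix.toLin' (A : Matrix (Fin n) (Fin n) F)) f v) := by
    intro f
    induction f using Polynomial.induction_on with
    | C a => intro v; simp [aeval_C, Module.algebraMap_end_apply]
    | add p q hp hq =>
      intro v
      rw [map_add, map_add, LinearMap.add_apply, LinearMap.add_apply, hp, hq, map_add]
    | monomial m a ih =>
      intro v
      rw [pow_succ, ← mul_assoc, map_mul, map_mul (aeval (R := F) _) (C a * X ^ m), aeval_X, aeval_X,
        Module.End.mul_apply, Module.End.mul_apply]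
      have : Matrix.toLin' ((g * A * g⁻¹ : GL (Fin n) F) : Matrix (Fin n) (Fin n) F) (e v) =
          e (Matrix.toLin' (A : Matrix (Fin n) (Fin n) F) v) := by
        simp only [he, Matrix.toLin'_apply, Matrix.mulVec_mulVec, ← Units.val_mul, inv_mul_cancel_right]
      rw [this, ih]
  refine (Nat.card_congr (Equiv.subtypeEquiv e.toEquiv fun v => ?_)).symm
  show _ ↔ _ = 0
  rw [LinearEquiv.coe_toEquiv, hint, LinearEquiv.map_eq_zero_iff]

theorem invT_eq_of_kerCard {A B : GL (Fin n) F}
    (h : ∀ f : F[X], Irreducible f → f.Monic → ∀ k, kerCard A f k = kerCard B f k) :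
    invT A = invT B := by
  classical
  refine Subtype.ext (funext fun j => ?_)
  show tup (keyOf A) n j = tup (keyOf B) n j
  have hcount : ∀ f, Multiset.count f (UniqueFactorizationMonoid.normalizedFactors (tup (keyOf A) n j)) =
      Multiset.count f (UniqueFactorizationMonoid.normalizedFactors (tup (keyOf B) n j)) := by
    intro f
    rw [← card_fibre_eq (keyOf_spec A).1, ← card_fibre_eq (keyOf_spec B).1]
    by_cases hf : Irreducible f ∧ f.Monic
    · exact card_fibre_eq_of_kerCard hf.1 hf.2 hf.1 hf.2 rfl (h f hf.1 hf.2) _ (by omega)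
    · rw [Fintype.card_eq_zero_iff.2 ⟨fun i => hf ?_⟩, Fintype.card_eq_zero_iff.2 ⟨fun i => hf ?_⟩]
      · have := (keyOf_spec B).1 i.1
        rw [i.2] at this; exact ⟨this.2.1, this.2.2.1⟩
      · have := (keyOf_spec A).1 i.1
        rw [i.2] at this; exact ⟨this.2.1, this.2.2.1⟩
  have hmA := ((invT A).2.1 j).1
  have hmB := ((invT B).2.1 j).1
  refine eq_of_monic_of_associated hmA hmB ?_
  exact (UniqueFactorizationMonoid.associated_iff_normalizedFactors_eq_normalizedFactors
    hmA.ne_zero hmB.ne_zero).2 (Multiset.ext.2 hcount)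

/-- The invariant classifies conjugacy classes. -/
theorem invT_eq_iff {A B : GL (Fin n) F} : invT A = invT B ↔ IsConj A B := by
  refine ⟨invT_eq_iff_aux, fun h => ?_⟩
  obtain ⟨g, rfl⟩ := isConj_iff.1 h
  exact invT_eq_of_kerCard fun f _ _ k => (kerCard_conj A g f k).symm

/-! ### Scalar multiples -/

theorem aeval_scaleRoots_smul {E : Type*} [Ring E] [Algebra F E] (a : E) (f : F[X]) (z : F) :
    aeval (z • a) (f.scaleRoots z) = z ^ f.natDegree • aeval a f := by
  rw [aeval_eq_sum_range, aeval_eq_sum_range, natDegree_scaleRoots, Finset.smul_sum]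
  refine Finset.sum_congr rfl fun i hi => ?_
  rw [coeff_scaleRoots, _root_.smul_pow, smul_smul, smul_smul, mul_assoc, ← pow_add,
    Nat.sub_add_cancel (by rw [Finset.mem_range] at hi; omega), mul_comm]

theorem irreducible_scaleRoots {f : F[X]} (hf : Irreducible f) {z : F} (hz : z ≠ 0) :
    Irreducible (f.scaleRoots z) := by
  have hback : ∀ g : F[X], (g.scaleRoots z).scaleRoots z⁻¹ = g := fun g => by
    rw [← scaleRoots_mul, mul_inv_cancel₀ hz, scaleRoots_one]
  have hunit : ∀ (g : F[X]) (w : F), g ≠ 0 → (IsUnit (g.scaleRoots w) → IsUnit g) := by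
    intro g w hg hu
    rw [isUnit_iff_degree_eq_zero, degree_scaleRoots] at hu
    exact isUnit_iff_degree_eq_zero.2 hu
  refine ⟨fun hu => hf.not_isUnit (hunit f z hf.ne_zero hu), fun a b hab => ?_⟩
  have hab' : f = a.scaleRoots z⁻¹ * b.scaleRoots z⁻¹ := by
    rw [← mul_scaleRoots_of_noZeroDivisors, ← hab, hback]
  have ha : a ≠ 0 := fun e => by
    rw [e, zero_mul] at hab
    exact hf.ne_zero (by rw [← hback f, hab, zero_scaleRoots])
  have hb : b ≠ 0 := fun e => by
    rw [e, mul_zero] at hab
    exact hf.ne_zero (by rw [← hback f, hab, zero_scaleRoots])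
  rcases hf.isUnit_or_isUnit hab' with h | h
  · left
    rw [isUnit_iff_degree_eq_zero, degree_scaleRoots] at h
    exact isUnit_iff_degree_eq_zero.2 h
  · right
    rw [isUnit_iff_degree_eq_zero, degree_scaleRoots] at h
    exact isUnit_iff_degree_eq_zero.2 h

theorem kerCard_smul (A B : GL (Fin n) F) {z : F} (hz : z ≠ 0)
    (hB : (B : Matrix (Fin n) (Fin n) F) = z • (A : Matrix (Fin n) (Fin n) F)) (f : F[X]) (k : ℕ) :
    kerCard B (f.scaleRoots z) k = kerCard A f k := by
  refine Nat.card_congr (Equiv.subtypeEquivRight fun v => ?_)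
  rw [hB, map_smul, map_pow, map_pow, aeval_scaleRoots_smul, _root_.smul_pow, LinearMap.smul_apply,
    smul_eq_zero]
  exact or_iff_right (pow_ne_zero _ (pow_ne_zero _ hz))

/-- A matrix conjugate to its multiple by `z` has invariant fixed by scaling the roots by `z`. -/
theorem invT_scaleRoots {A B : GL (Fin n) F} {z : F} (hz : z ≠ 0)
    (hB : (B : Matrix (Fin n) (Fin n) F) = z • (A : Matrix (Fin n) (Fin n) F)) (h : IsConj A B)
    (j : Fin n) : ((invT A).1 j).scaleRoots z = (invT A).1 j := by
  classical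
  set P := (invT A).1 j with hP
  have hm : P.Monic := ((invT A).2.1 j).1
  have hcount : ∀ f, Irreducible f → f.Monic →
      Multiset.count (f.scaleRoots z) (UniqueFactorizationMonoid.normalizedFactors P) =
        Multiset.count f (UniqueFactorizationMonoid.normalizedFactors P) := by
    intro f hf hfm
    rw [hP]
    show Multiset.count _ (UniqueFactorizationMonoid.normalizedFactors (tup (keyOf A) n j)) =
      Multiset.count _ (UniqueFactorizationMonoid.normalizedFactors (tup (keyOf A) n j))
    rw [← card_fibre_eq (keyOf_spec A).1, ← card_fibre_eq (keyOf_spec A).1]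
    refine card_fibre_eq_of_kerCard (irreducible_scaleRoots hf hz) (monic_scaleRoots_iff _ |>.2 hfm)
      hf hfm (natDegree_scaleRoots f z) (fun k => ?_) _ (by omega)
    obtain ⟨g, hg⟩ := isConj_iff.1 h
    rw [← kerCard_smul A B hz hB f k, ← hg, kerCard_conj]
  have hmem : ∀ f ∈ UniqueFactorizationMonoid.normalizedFactors P, Irreducible f ∧ f.Monic := fun f hf =>
    ⟨UniqueFactorizationMonoid.irreducible_of_normalized_factor f hf,
      by
        rw [← UniqueFactorizationMonoid.normalize_normalized_factor f hf]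
        exact monic_normalize (UniqueFactorizationMonoid.irreducible_of_normalized_factor f hf).ne_zero⟩
  have hback : ∀ g : F[X], (g.scaleRoots z⁻¹).scaleRoots z = g := fun g => by
    rw [← scaleRoots_mul, inv_mul_cancel₀ hz, scaleRoots_one]
  set M := UniqueFactorizationMonoid.normalizedFactors P with hM
  have hinj : Function.Injective fun f : F[X] => f.scaleRoots z := fun a b e => by
    have hback' : ∀ g : F[X], (g.scaleRoots z).scaleRoots z⁻¹ = g := fun g => by
      rw [← scaleRoots_mul, mul_inv_cancel₀ hz, scaleRoots_one]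
    rw [← hback' a, ← hback' b]; exact congrArg (fun g : F[X] => g.scaleRoots z⁻¹) e
  have hmap : M.map (fun f => f.scaleRoots z) = M := by
    ext f
    obtain ⟨g, rfl⟩ : ∃ g, Polynomial.scaleRoots g z = f := ⟨_, hback f⟩
    rw [Multiset.count_map_eq_count' _ _ hinj]
    by_cases hg : Irreducible g ∧ g.Monic
    · exact (hcount g hg.1 hg.2).symm
    · rw [Multiset.count_eq_zero.2 fun hm' => hg (hmem g hm'),
        Multiset.count_eq_zero.2 fun hm' => hg ?_]
      have h5 := hmem _ hm'
      refine ⟨?_, (monic_scaleRoots_iff z).1 h5.2⟩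
      have := irreducible_scaleRoots h5.1 (inv_ne_zero hz)
      rwa [← scaleRoots_mul, mul_inv_cancel₀ hz, scaleRoots_one] at this
  have hprod : ∀ S : Multiset F[X],
      (S.map fun f : F[X] => f.scaleRoots z).prod = S.prod.scaleRoots z := by
    intro S
    induction S using Multiset.induction_on with
    | empty =>
      rw [Multiset.map_zero, Multiset.prod_zero]
      exact (one_scaleRoots z).symm
    | cons a S ih => rw [Multiset.map_cons, Multiset.prod_cons, Multiset.prod_cons, ih,
        mul_scaleRoots_of_noZeroDivisors]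
  have hMP : M.prod = P := eq_of_monic_of_associated
    (monic_multiset_prod_of_monic _ _ (fun f hf => (hmem f hf).2) |> fun h => by simpa using h) hm
    (UniqueFactorizationMonoid.prod_normalizedFactors hm.ne_zero)
  rw [← hMP, ← hprod, hmap]

/-! ### Determinants -/

/-- The determinant and the determinants of the centraliser. -/
theorem invT_spec (A : GL (Fin n) F) :
    detT (invT A).1 = (A : Matrix (Fin n) (Fin n) F).det ∧
      ∀ (j : Fin n), (invT A).1 j ≠ 1 → ∀ c : Fˣ, ∃ B : GL (Fin n) F, Commute B A ∧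
        Matrix.GeneralLinearGroup.det B = c ^ ((j : ℕ) + 1) := by
  classical
  obtain ⟨hkey, hsum, ⟨φ⟩⟩ := keyOf_spec A
  set key := keyOf A with hkeydef
  haveI hmon : ∀ i, Fact ((key i).2.Monic) := fun i => ⟨(hkey i).2.2.1⟩
  haveI : ∀ i, FiniteDimensional F (Q (key i)) := fun i => finite_Q (key i)
  set a := Matrix.toLin' (A : Matrix (Fin n) (Fin n) F) with ha
  let Φ : (Fin n → F) ≃ₗ[F] (∀ i, Q (key i)) :=
    (Module.AEval'.of a).trans (φ.restrictScalars F)
  have hΦ : ∀ v, Φ (a v) = (X : F[X]) • Φ v := fun v => by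
    show φ (Module.AEval'.of a (a v)) = (X : F[X]) • φ (Module.AEval'.of a v)
    rw [← map_smul, Module.AEval'.X_smul_of]
  show detT (tup key n) = _ ∧ ∀ (j : Fin n), tup key n j ≠ 1 → _
  refine ⟨?_, ?_⟩
  · have e : a = (Φ.symm : (∀ i, Q (key i)) →ₗ[F] (Fin n → F)) ∘ₗ
        (LinearMap.pi fun i => ((LinearMap.lsmul F[X] (Q (key i)) X).restrictScalars F).comp
          (LinearMap.proj i)) ∘ₗ (Φ : (Fin n → F) →ₗ[F] (∀ i, Q (key i))) := by
      refine LinearMap.ext fun v => Φ.injective ?_
      simp only [LinearMap.comp_apply, LinearEquiv.coe_coe, LinearEquiv.apply_symm_apply, hΦ]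
      rfl
    rw [← LinearMap.det_toLin', ← ha, e, detT_tup hkey hsum]
    have := LinearMap.det_conj (LinearMap.pi fun i =>
      ((LinearMap.lsmul F[X] (Q (key i)) X).restrictScalars F).comp (LinearMap.proj i)) Φ.symm
    rw [LinearEquiv.symm_symm] at this
    rw [this, det_piMap]
    exact Finset.prod_congr rfl fun i _ =>
      (det_mulX (hkey i).2.2.1 (hkey i).1 (hkey i).2.1.natDegree_pos).symm
  · intro j hj c
    obtain ⟨i, hi⟩ : ∃ i, (key i).1 = (j : ℕ) + 1 := by
      by_contra hcon
      simp only [not_exists] at hcon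
      apply hj
      show tup key n j = 1
      rw [tup, Finset.filter_false_of_mem fun i _ => hcon i, Finset.prod_empty]
    obtain ⟨u, hu⟩ := exists_unit_det (hkey i).2.2.1 (hkey i).2.1 (hkey i).1 c
    let u' : ∀ k, Q (key k) := Function.update 1 i (u : Q (key i))
    let m : (∀ k, Q (key k)) →ₗ[F] (∀ k, Q (key k)) :=
      LinearMap.pi fun k => (Algebra.lmul F (Q (key k)) (u' k)).comp (LinearMap.proj k)
    have hm : ∀ x k, m x k = u' k * x k := fun x k => rfl
    have hdetm : LinearMap.det m = (c : F) ^ ((j : ℕ) + 1) := by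
      rw [det_piMap, Finset.prod_eq_single i]
      · rw [show u' i = (u : Q (key i)) from Function.update_self .., hu, hi]
      · intro k _ hk
        rw [show u' k = 1 from Function.update_of_ne hk .., map_one, map_one]
      · simp
    let b : Module.End F (Fin n → F) := (Φ.symm : (∀ i, Q (key i)) →ₗ[F] (Fin n → F)) ∘ₗ m ∘ₗ
      (Φ : (Fin n → F) →ₗ[F] (∀ i, Q (key i)))
    have hdetb : LinearMap.det b = (c : F) ^ ((j : ℕ) + 1) := by
      have := LinearMap.det_conj m Φ.symm
      rw [LinearEquiv.symm_symm] at this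
      exact this.trans hdetm
    have hcomm : b * a = a * b := LinearMap.ext fun v => Φ.injective (by
      show Φ (Φ.symm (m (Φ (a v)))) = Φ (a (Φ.symm (m (Φ v))))
      rw [hΦ, hΦ, LinearEquiv.apply_symm_apply, LinearEquiv.apply_symm_apply]
      funext k
      rw [hm, Pi.smul_apply, Pi.smul_apply, hm]
      exact (mul_smul_comm _ _ _))
    have hu' : IsUnit (LinearMap.toMatrix' b).det := by
      rw [LinearMap.det_toMatrix', hdetb]
      exact (c ^ ((j : ℕ) + 1)).isUnit
    refine ⟨((Matrix.isUnit_iff_isUnit_det _).2 hu').unit, Units.ext ?_, Units.ext ?_⟩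
    · show LinearMap.toMatrix' b * (A : Matrix (Fin n) (Fin n) F) = (A : Matrix (Fin n) (Fin n) F) * LinearMap.toMatrix' b
      have := congrArg LinearMap.toMatrix' hcomm
      rwa [LinearMap.toMatrix'_mul, LinearMap.toMatrix'_mul, ha, LinearMap.toMatrix'_toLin'] at this
    · show (LinearMap.toMatrix' b).det = _
      rw [LinearMap.det_toMatrix', hdetb, Units.val_pow_eq_pow_val]

end Cfsg.Agent.Lib.ClassesSL
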