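import Cfsg.Agent.Lib.ClassesSL.Count

/-!
Classes of `SL(n,q)` and of its central quotient, bounded by weighted counts of sequences.
-/

set_option autoImplicit false
set_option linter.unusedSectionVars false
set_option linter.style.haveILetI false

namespace Cfsg.Agent.Lib.ClassesSL

open Polynomial
open Cfsg.Agent.Lib.ClassesGLBound

universe u

/-! ### Classes of a central quotient -/

theorem conjClasses_quotient_center {G : Type*} [Group G] [Finite G]
    [Fintype (Subgroup.center G)] :
    Nat.card (ConjClasses G) ≤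
        Nat.card (Subgroup.center G) * Nat.card (ConjClasses (G ⧸ Subgroup.center G)) ∧
      Nat.card (Subgroup.center G) * Nat.card (ConjClasses (G ⧸ Subgroup.center G)) ≤
        ∑ z : Subgroup.center G,
          Nat.card {C : ConjClasses G // ∃ x, ConjClasses.mk x = C ∧ IsConj ((z : G) * x) x} := by
  classical
  set Z := Subgroup.center G with hZdef
  let π := QuotientGroup.mk' Z
  have hπ : Function.Surjective π := QuotientGroup.mk'_surjective Z
  have hcomm : ∀ (z : Z) (g : G), g * (z : G) = (z : G) * g := fun z g =>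
    Subgroup.mem_center_iff.1 z.2 g
  have hmul : ∀ (z : Z) (x y : G), IsConj x y → IsConj ((z : G) * x) ((z : G) * y) := fun z x y h => by
    obtain ⟨g, rfl⟩ := isConj_iff.1 h
    exact isConj_iff.2 ⟨g, by rw [← mul_assoc g, hcomm z g]; group⟩
  constructor
  · rw [mul_comm, ← Nat.card_prod]
    choose rep hrep using fun D : ConjClasses (G ⧸ Z) => hπ (Quotient.out D)
    refine Nat.card_le_card_of_surjective
      (fun p : ConjClasses (G ⧸ Z) × Z => ConjClasses.mk ((p.2 : G) * rep p.1)) ?_
    intro C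
    obtain ⟨x, rfl⟩ := ConjClasses.mk_surjective C
    set D := ConjClasses.mk (π x) with hD
    have hc : IsConj (π (rep D)) (π x) := by
      rw [hrep]
      exact ConjClasses.mk_eq_mk_iff_isConj.1 (Quotient.out_eq D)
    obtain ⟨c, hc⟩ := isConj_iff.1 hc
    obtain ⟨g, rfl⟩ := hπ c
    rw [← map_inv, ← map_mul, ← map_mul] at hc
    have hz : (g * rep D * g⁻¹)⁻¹ * x ∈ Z := QuotientGroup.eq.1 hc
    refine ⟨(D, ⟨_, hz⟩), ConjClasses.mk_eq_mk_iff_isConj.2 (isConj_iff.2 ⟨g, ?_⟩)⟩
    show g * ((g * rep D * g⁻¹)⁻¹ * x * rep D) * g⁻¹ = x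
    have h2 := hcomm ⟨_, hz⟩ (g * rep D * g⁻¹)
    rw [mul_inv_cancel_left] at h2
    calc g * ((g * rep D * g⁻¹)⁻¹ * x * rep D) * g⁻¹
        = (g * ((g * rep D * g⁻¹)⁻¹ * x)) * g⁻¹ * (g * rep D * g⁻¹) := by group
      _ = ((g * rep D * g⁻¹)⁻¹ * x) * g * g⁻¹ * (g * rep D * g⁻¹) := by rw [hcomm ⟨_, hz⟩ g]
      _ = ((g * rep D * g⁻¹)⁻¹ * x) * (g * rep D * g⁻¹) := by group
      _ = x := h2.symm
  · letI : MulAction Z (ConjClasses G) :=
      { smul := fun z => Quotient.map ((z : G) * ·) fun x y h => hmul z x y h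
        one_smul := fun C => by
          obtain ⟨x, rfl⟩ := ConjClasses.mk_surjective C
          show ConjClasses.mk (((1 : Z) : G) * x) = ConjClasses.mk x
          rw [Subgroup.coe_one, one_mul]
        mul_smul := fun a b C => by
          obtain ⟨x, rfl⟩ := ConjClasses.mk_surjective C
          show ConjClasses.mk (((a * b : Z) : G) * x) = ConjClasses.mk ((a : G) * ((b : G) * x))
          rw [Subgroup.coe_mul, mul_assoc] }
    letI : Fintype (ConjClasses G) := Fintype.ofFinite _
    letI : Fintype (MulAction.orbitRel.Quotient Z (ConjClasses G)) := Fintype.ofFinite _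
    have hsum := MulAction.sum_card_fixedBy_eq_card_orbits_mul_card_group Z (ConjClasses G)
    have hfix : ∀ z : Z, Fintype.card (MulAction.fixedBy (ConjClasses G) z) =
        Nat.card {C : ConjClasses G // ∃ x, ConjClasses.mk x = C ∧ IsConj ((z : G) * x) x} := by
      intro z
      rw [← Nat.card_eq_fintype_card]
      refine Nat.card_congr (Equiv.subtypeEquivRight fun C => ?_)
      rw [MulAction.mem_fixedBy]
      constructor
      · intro h
        obtain ⟨x, rfl⟩ := ConjClasses.mk_surjective C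
        exact ⟨x, rfl, ConjClasses.mk_eq_mk_iff_isConj.1 h⟩
      · rintro ⟨x, rfl, h⟩
        exact ConjClasses.mk_eq_mk_iff_isConj.2 h
    rw [← Finset.sum_congr rfl fun z _ => hfix z]
    refine le_trans ?_ (le_of_eq (hsum.symm.trans (by congr!)))
    rw [mul_comm, ← Nat.card_eq_fintype_card, ← Nat.card_eq_fintype_card]
    refine Nat.mul_le_mul_right _ ?_
    let Φ : MulAction.orbitRel.Quotient Z (ConjClasses G) → ConjClasses (G ⧸ Z) :=
      Quotient.lift (ConjClasses.map π) fun C C' h => by
        obtain ⟨z, hz⟩ := MulAction.mem_orbit_iff.1 (show C ∈ MulAction.orbit Z C' from h)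
        obtain ⟨x, rfl⟩ := ConjClasses.mk_surjective C'
        rw [← hz]
        show ConjClasses.mk (π ((z : G) * x)) = ConjClasses.mk (π x)
        rw [map_mul, show π (z : G) = 1 from (QuotientGroup.eq_one_iff _).2 z.2, one_mul]
    refine Nat.card_le_card_of_surjective Φ fun D => ?_
    obtain ⟨y, rfl⟩ := ConjClasses.mk_surjective D
    obtain ⟨x, rfl⟩ := hπ y
    exact ⟨Quotient.mk _ (ConjClasses.mk x), rfl⟩

variable {F : Type u} [Field F] [Fintype F] {n : ℕ}

/-- The invariant of an element of the special linear group. -/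
noncomputable def slT (x : Matrix.SpecialLinearGroup (Fin n) F) : T F n n :=
  invT (Matrix.SpecialLinearGroup.toGL x)

/-- The invariant of a class. -/
noncomputable def clsT : ConjClasses (Matrix.SpecialLinearGroup (Fin n) F) → T F n n :=
  Quotient.lift slT fun x y h => by
    obtain ⟨g, hg⟩ := isConj_iff.1 (show IsConj x y from h)
    exact invT_eq_iff.2 (isConj_iff.2 ⟨Matrix.SpecialLinearGroup.toGL g, by
      rw [← map_inv, ← map_mul, ← map_mul, hg]⟩)

theorem detT_slT (x : Matrix.SpecialLinearGroup (Fin n) F) : detT (slT x).1 = 1 :=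
  (invT_spec _).1.trans x.2

theorem pow_gam_mem (A : GL (Fin n) F) (c : Fˣ) :
    c ^ gam (invT A).1 ∈
      (Subgroup.centralizer {A}).map (Matrix.GeneralLinearGroup.det : GL (Fin n) F →* Fˣ) := by
  classical
  refine mem_of_gcd _ c ?_ (mem_of_finset_gcd _ c _ _ fun j hj => ?_)
  · rw [← Fintype.card_units, pow_card_eq_one]
    exact one_mem _
  · obtain ⟨B, hB, hdet⟩ := (invT_spec A).2 j (mem_supp.1 hj) c
    exact ⟨B, Subgroup.mem_centralizer_singleton_iff.2 hB.eq, hdet⟩

theorem card_fibre_le (t : T F n n) :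
    Nat.card {C : ConjClasses (Matrix.SpecialLinearGroup (Fin n) F) // clsT C = t} ≤ gam t.1 := by
  classical
  rcases isEmpty_or_nonempty {C : ConjClasses (Matrix.SpecialLinearGroup (Fin n) F) // clsT C = t}
    with he | ⟨⟨C0, hC0⟩⟩
  · simp
  obtain ⟨x0, rfl⟩ := ConjClasses.mk_surjective C0
  let R := (powMonoidHom (gam t.1) : Fˣ →* Fˣ).range
  have hR : Nat.card (Fˣ ⧸ R) = gam t.1 := by
    show R.index = _
    rw [IsCyclic.index_powMonoidHom_range, Nat.card_units, Nat.card_eq_fintype_card (α := F),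
      Nat.gcd_eq_right (gam_dvd_sub_one _)]
  have hg : ∀ C : {C : ConjClasses (Matrix.SpecialLinearGroup (Fin n) F) // clsT C = t},
      ∃ g : GL (Fin n) F, g * Matrix.SpecialLinearGroup.toGL x0 * g⁻¹ =
        Matrix.SpecialLinearGroup.toGL (Quotient.out C.1) := fun C => by
    refine isConj_iff.1 (invT_eq_iff.1 ?_)
    refine hC0.trans (C.2.symm.trans ?_)
    conv_lhs => rw [← Quotient.out_eq C.1]
    rfl
  choose g hg using hg
  rw [← hR]
  refine Nat.card_le_card_of_injective
    (fun C => (QuotientGroup.mk (Matrix.GeneralLinearGroup.det (g C)) : Fˣ ⧸ R)) fun C C' h => ?_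
  obtain ⟨c, hc⟩ := QuotientGroup.eq.1 h
  rw [powMonoidHom_apply] at hc
  have ht : invT (Matrix.SpecialLinearGroup.toGL x0) = t := hC0
  obtain ⟨B, hB, hdet⟩ := Subgroup.mem_map.1 (pow_gam_mem (Matrix.SpecialLinearGroup.toGL x0) c)
  rw [ht, hc] at hdet
  have hB' := Subgroup.mem_centralizer_singleton_iff.1 hB
  set h' := g C' * (g C * B)⁻¹ with hh'
  have h1 : Matrix.GeneralLinearGroup.det h' = 1 := by
    rw [hh', map_mul, map_inv, map_mul, hdet]
    group
  let s : Matrix.SpecialLinearGroup (Fin n) F :=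
    ⟨(h' : Matrix (Fin n) (Fin n) F), congrArg Units.val h1⟩
  have hs : Matrix.SpecialLinearGroup.toGL s = h' := Units.ext rfl
  refine Subtype.ext ?_
  rw [← Quotient.out_eq C.1, ← Quotient.out_eq C'.1]
  refine ConjClasses.mk_eq_mk_iff_isConj.2 (isConj_iff.2 ⟨s, ?_⟩)
  apply Matrix.SpecialLinearGroup.toGL_injective
  rw [map_mul, map_mul, map_inv, hs, ← hg C, ← hg C', hh']
  have h2 : B⁻¹ * Matrix.SpecialLinearGroup.toGL x0 * B = Matrix.SpecialLinearGroup.toGL x0 := by
    rw [mul_assoc, ← hB', inv_mul_cancel_left]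
  calc _ = g C' * (B⁻¹ * Matrix.SpecialLinearGroup.toGL x0 * B) * (g C')⁻¹ := by group
    _ = _ := by rw [h2]

theorem count_le (P : T F n n → Prop) [DecidablePred P] (hP : Stable P) :
    (Fintype.card F - 1) *
        Nat.card {C : ConjClasses (Matrix.SpecialLinearGroup (Fin n) F) // P (clsT C)} ≤
      ∑ t ∈ Finset.univ.filter (fun t : T F n n => P t), gam t.1 ^ 2 := by
  classical
  letI : Fintype (ConjClasses (Matrix.SpecialLinearGroup (Fin n) F)) := Fintype.ofFinite _
  refine le_trans (Nat.mul_le_mul_left _ ?_) (sum_gam_det_one_le P hP)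
  rw [Nat.card_eq_fintype_card, Fintype.card_subtype,
    Finset.card_eq_sum_card_fiberwise (f := clsT)
      (t := Finset.univ.filter fun t : T F n n => P t ∧ detT t.1 = 1)]
  · refine Finset.sum_le_sum fun t _ => le_trans ?_ (card_fibre_le t)
    rw [Nat.card_eq_fintype_card, Fintype.card_subtype]
    exact Finset.card_le_card fun C hC => by simpa using (Finset.mem_filter.1 hC).2
  · intro C hC
    obtain ⟨x, rfl⟩ := ConjClasses.mk_surjective C
    exact Finset.mem_filter.2 ⟨Finset.mem_univ _, (Finset.mem_filter.1 hC).2, detT_slT x⟩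

theorem card_conjClasses_mul_le :
    (Fintype.card F - 1) * Nat.card (ConjClasses (Matrix.SpecialLinearGroup (Fin n) F)) ≤ Phi F n := by
  classical
  have h := count_le (F := F) (n := n) (fun _ => True) fun _ _ _ _ => trivial
  rwa [Nat.card_congr (Equiv.subtypeUnivEquiv fun _ => trivial), Finset.filter_true] at h

theorem fixed_mul_le (hn : 1 ≤ n) (z : Subgroup.center (Matrix.SpecialLinearGroup (Fin n) F))
    (hz1 : z ≠ 1) :
    ∃ m, m ∣ n ∧ 2 * m ≤ n ∧ 1 ≤ m ∧ (Fintype.card F - 1) *
      Nat.card {C : ConjClasses (Matrix.SpecialLinearGroup (Fin n) F) //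
        ∃ x, ConjClasses.mk x = C ∧
          IsConj ((z : Matrix.SpecialLinearGroup (Fin n) F) * x) x} ≤ Phi F m := by
  classical
  obtain ⟨r, hrn, hr⟩ := Matrix.SpecialLinearGroup.mem_center_iff.1 z.2
  rw [Fintype.card_fin] at hrn
  have hr0 : r ≠ 0 := by
    rintro rfl
    rw [zero_pow (by omega)] at hrn
    exact zero_ne_one hrn
  set u : Fˣ := Units.mk0 r hr0 with hu
  have hun : u ^ n = 1 := Units.ext (by rw [Units.val_pow_eq_pow_val]; exact hrn)
  have hu1 : orderOf u ≠ 1 := by
    rw [Ne, orderOf_eq_one_iff]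
    intro h
    refine hz1 (Subtype.ext (Subtype.ext ?_))
    rw [← hr, show r = 1 from congrArg Units.val h, map_one]
    rfl
  have hh : orderOf u ∣ n := orderOf_dvd_of_pow_eq_one hun
  have hpos := orderOf_pos u
  obtain ⟨k, hk⟩ := hh
  refine ⟨k, ⟨orderOf u, hk.trans (mul_comm _ _)⟩, ?_, Nat.pos_of_ne_zero fun e => ?_, ?_⟩
  · conv_rhs => rw [hk]
    exact Nat.mul_le_mul_right k (by omega)
  · rw [e, mul_zero] at hk; omega
  refine le_trans ?_ (sum_fixed_le (n := n) (z := u) rfl hk)
  refine le_trans (Nat.mul_le_mul_left _ ?_) (count_le _ ?_)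
  · refine Nat.card_le_card_of_injective (fun C => ⟨C.1, ?_⟩) fun C C' h =>
      Subtype.ext (congrArg (fun D => D.1) h)
    obtain ⟨x, hx, hxz⟩ := C.2
    rw [← hx]
    intro j
    refine invT_scaleRoots (B := Matrix.SpecialLinearGroup.toGL
      ((z : Matrix.SpecialLinearGroup (Fin n) F) * x)) hr0 ?_ ?_ j
    · show ((z : Matrix.SpecialLinearGroup (Fin n) F) : Matrix (Fin n) (Fin n) F) * x.1 = r • x.1
      rw [← hr, Matrix.scalar_apply, Matrix.smul_eq_diagonal_mul]
    · obtain ⟨g, hg⟩ := isConj_iff.1 hxz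
      refine (isConj_iff.2 ⟨Matrix.SpecialLinearGroup.toGL g, ?_⟩ : IsConj _ _).symm
      rw [← map_inv, ← map_mul, ← map_mul, hg]
  · intro t t' ht he j
    have hmt := (t.2.1 j).1
    have hmt' := (t'.2.1 j).1
    have hdeg : (t'.1 j).natDegree = (t.1 j).natDegree := by
      refine le_antisymm (le_of_not_gt fun hlt => ?_) (le_of_not_gt fun hlt => ?_)
      · have := he j _ (show (t'.1 j).natDegree ≠ 0 by omega)
        rw [hmt'.coeff_natDegree, coeff_eq_zero_of_natDegree_lt hlt] at this
        exact one_ne_zero this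
      · have := he j _ (show (t.1 j).natDegree ≠ 0 by omega)
        rw [hmt.coeff_natDegree, coeff_eq_zero_of_natDegree_lt hlt] at this
        exact one_ne_zero this.symm
    ext i
    have h1 := congrArg (fun f : F[X] => f.coeff i) (ht j)
    simp only [coeff_scaleRoots] at h1 ⊢
    rw [hdeg]
    rcases Nat.eq_zero_or_pos i with rfl | hi
    · rw [mul_eq_left₀ (coeff_ne_zero t j)] at h1
      rw [h1, mul_one]
    · rw [he j i (by omega), h1]

/-! ### Companion matrices of determinant one -/

theorem exists_companion {g : F[X]} (hg : g.Monic) (hd : g.natDegree = n)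
    (hc : g.coeff 0 = (-1) ^ n) :
    ∃ A : Matrix.SpecialLinearGroup (Fin n) F,
      (A : Matrix (Fin n) (Fin n) F).charpoly = g ∧ (2 ≤ n → A ≠ 1) := by
  classical
  let h := AdjoinRoot.powerBasis hg.ne_zero
  have hdim : h.dim = n := (AdjoinRoot.powerBasis_dim hg.ne_zero).trans hd
  let M := Matrix.reindex (finCongr hdim) (finCongr hdim) (Algebra.leftMulMatrix h.basis h.gen)
  have hM : M.charpoly = g := by
    rw [Matrix.charpoly_reindex, charpoly_leftMulMatrix]
    exact AdjoinRoot.minpoly_powerBasis_gen_of_monic hg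
  have hdet : M.det = 1 := by
    rw [Matrix.det_eq_sign_charpoly_coeff, hM, hc, Fintype.card_fin, ← mul_pow, neg_one_mul, neg_neg,
      one_pow]
  refine ⟨⟨M, hdet⟩, hM, fun h2 hA => ?_⟩
  have hM1 : M = 1 := congrArg Subtype.val hA
  have h1 : Algebra.leftMulMatrix h.basis h.gen = 1 :=
    (Matrix.reindexAlgEquiv F F (finCongr hdim)).injective (hM1.trans (map_one _).symm)
  have hgen : h.gen = 1 :=
    Algebra.leftMulMatrix_injective h.basis (h1.trans (map_one (Algebra.leftMulMatrix h.basis)).symm)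
  have hmin : minpoly F h.gen = g := AdjoinRoot.minpoly_powerBasis_gen_of_monic hg
  have hz : aeval h.gen (X - C 1 : F[X]) = 0 := by simp [hgen]
  have hdvd := natDegree_le_of_dvd (minpoly.dvd F _ hz) (X_sub_C_ne_zero 1)
  rw [hmin, hd, natDegree_X_sub_C] at hdvd
  omega

theorem pow_lt_card_conjClasses (hn : 2 ≤ n) :
    Fintype.card F ^ (n - 1) < Nat.card (ConjClasses (Matrix.SpecialLinearGroup (Fin n) F)) := by
  classical
  let P := {f : F[X] // (f.Monic ∧ f.natDegree = n) ∧ f.coeff 0 = (-1) ^ n}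
  have hP : Nat.card P = Fintype.card F ^ (n - 1) := by
    have := GLFlags.CharpolyCount.card_monic_coeff (F := F) (fun c => c = (-1) ^ n)
      (show 1 ≤ n by omega)
    rw [Nat.card_unique (α := {c : F // c = (-1) ^ n}), one_mul,
      Nat.card_eq_fintype_card (α := F)] at this
    exact this
  haveI : Finite P := Nat.finite_of_card_ne_zero (by rw [hP]; exact pow_ne_zero _ Fintype.card_ne_zero)
  choose A hA hA1 using fun f : P => exists_companion f.2.1.1 f.2.1.2 f.2.2
  have hcp : ∀ x y : Matrix.SpecialLinearGroup (Fin n) F, IsConj x y →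
      (x : Matrix (Fin n) (Fin n) F).charpoly = (y : Matrix (Fin n) (Fin n) F).charpoly := by
    intro x y hxy
    obtain ⟨g, hg⟩ := isConj_iff.1 hxy
    have e : ((g * x * g⁻¹ : Matrix.SpecialLinearGroup (Fin n) F) : Matrix (Fin n) (Fin n) F) =
        (Matrix.SpecialLinearGroup.toGL g : Matrix (Fin n) (Fin n) F) * x.1 *
          ((Matrix.SpecialLinearGroup.toGL g)⁻¹ : GL (Fin n) F).val := by
      rw [← map_inv]; rfl
    rw [← hg, e, Matrix.coe_units_inv]
    exact (Matrix.charpoly_units_conj (Matrix.SpecialLinearGroup.toGL g) x.1).symm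
  let f : Option P → ConjClasses (Matrix.SpecialLinearGroup (Fin n) F) := fun o =>
    ConjClasses.mk (o.elim 1 A)
  have hf : Function.Injective f := by
    rintro (_ | a) (_ | b) h <;> have h' := ConjClasses.mk_eq_mk_iff_isConj.1 h
    · rfl
    · exact absurd (isConj_one_right.1 h') (hA1 b hn)
    · exact absurd (isConj_one_left.1 h') (hA1 a hn)
    · exact congrArg some (Subtype.ext ((hA a).symm.trans ((hcp _ _ h').trans (hA b))))
  have := Nat.card_le_card_of_injective f hf
  rw [Finite.card_option, hP] at this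
  omega

end Cfsg.Agent.Lib.ClassesSL
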